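import Mathlib

/-!
# An elementary form of "regular sequence modulo an ideal" (helper47)

`RegSeq K rs`: `rs` is a weakly regular sequence on `R ⧸ K`, phrased with ideals of `R` only, so
that it is easy to move along surjections and to change entries by units.
-/

set_option autoImplicit false
open RingTheory.Sequence
open scoped Pointwise

namespace Groth.Agent.H47.CMSlice

variable {R : Type*} [CommRing R]

/-- `r` is a nonzerodivisor modulo `K`. -/
def QReg (K : Ideal R) (r : R) : Prop := ∀ x, r * x ∈ K → x ∈ K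

/-- `rs` is a weakly regular sequence modulo `K`. -/
def RegSeq : Ideal R → List R → Prop
  | _, [] => True
  | K, r :: rs => QReg K r ∧ RegSeq (K ⊔ Ideal.span {r}) rs

@[simp] theorem regSeq_nil (K : Ideal R) : RegSeq K [] := trivial

theorem regSeq_cons (K : Ideal R) (r : R) (rs : List R) :
    RegSeq K (r :: rs) ↔ QReg K r ∧ RegSeq (K ⊔ Ideal.span {r}) rs := Iff.rfl

theorem qReg_iff_isSMulRegular (K : Ideal R) (r : R) : QReg K r ↔ IsSMulRegular (R ⧸ K) r := by
  rw [isSMulRegular_iff_right_eq_zero_of_smul]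
  constructor
  · intro h m hm
    obtain ⟨x, rfl⟩ := Ideal.Quotient.mk_surjective m
    rw [Ideal.Quotient.eq_zero_iff_mem]
    apply h
    rw [← Ideal.Quotient.eq_zero_iff_mem, ← smul_eq_mul, ← hm]
    rfl
  · intro h x hx
    rw [← Ideal.Quotient.eq_zero_iff_mem]
    apply h
    rw [← Ideal.Quotient.eq_zero_iff_mem] at hx
    rw [← hx]
    rfl

theorem qReg_iff_mem_nonZeroDivisors (K : Ideal R) (r : R) :
    QReg K r ↔ Ideal.Quotient.mk K r ∈ nonZeroDivisors (R ⧸ K) := by
  rw [mem_nonZeroDivisors_iff_right]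
  constructor
  · intro h m hm
    obtain ⟨x, rfl⟩ := Ideal.Quotient.mk_surjective m
    rw [Ideal.Quotient.eq_zero_iff_mem]
    apply h
    rw [← Ideal.Quotient.eq_zero_iff_mem, mul_comm, map_mul]
    exact hm
  · intro h x hx
    rw [← Ideal.Quotient.eq_zero_iff_mem]
    apply h
    rw [← map_mul, Ideal.Quotient.eq_zero_iff_mem, mul_comm]
    exact hx

/-- the module `QuotSMulTop r (R ⧸ K)` is `R ⧸ (K ⊔ (r))`. -/
noncomputable def quotSMulTopEquiv (K : Ideal R) (r : R) :
    QuotSMulTop r (R ⧸ K) ≃ₗ[R] R ⧸ (K ⊔ Ideal.span {r}) := by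
  refine (Submodule.quotEquivOfEq _ _ ?_).trans
    (Submodule.quotientQuotientEquivQuotientSup K (Ideal.span {r}))
  ext y
  rw [Submodule.mem_smul_pointwise_iff_exists, Submodule.mem_map]
  constructor
  · rintro ⟨z, -, rfl⟩
    obtain ⟨x, rfl⟩ := Ideal.Quotient.mk_surjective z
    exact ⟨r * x, Ideal.mul_mem_right _ _ (Ideal.subset_span rfl), rfl⟩
  · rintro ⟨a, ha, rfl⟩
    obtain ⟨b, rfl⟩ := Ideal.mem_span_singleton'.mp ha
    refine ⟨Submodule.Quotient.mk b, trivial, ?_⟩
    rw [mul_comm]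
    rfl

theorem regSeq_of_isWeaklyRegular (rs : List R) :
    ∀ K : Ideal R, IsWeaklyRegular (R ⧸ K) rs → RegSeq K rs := by
  induction rs with
  | nil => intro K _; trivial
  | cons r rs ih =>
    intro K h
    rw [isWeaklyRegular_cons_iff] at h
    refine ⟨(qReg_iff_isSMulRegular K r).mpr h.1, ih _ ?_⟩
    exact ((quotSMulTopEquiv K r).isWeaklyRegular_congr rs).mp h.2

theorem isWeaklyRegular_of_regSeq (rs : List R) :
    ∀ K : Ideal R, RegSeq K rs → IsWeaklyRegular (R ⧸ K) rs := by
  induction rs with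
  | nil => intro K _; exact IsWeaklyRegular.nil _ _
  | cons r rs ih =>
    intro K h
    rw [isWeaklyRegular_cons_iff]
    refine ⟨(qReg_iff_isSMulRegular K r).mp h.1, ?_⟩
    exact ((quotSMulTopEquiv K r).isWeaklyRegular_congr rs).mpr (ih _ h.2)

/-- weak regularity on the ring itself. -/
theorem isWeaklyRegular_self_of_regSeq_bot (rs : List R) (h : RegSeq (⊥ : Ideal R) rs) :
    IsWeaklyRegular R rs :=
  ((Submodule.quotEquivOfEqBot (⊥ : Ideal R) rfl).isWeaklyRegular_congr rs).mp
    (isWeaklyRegular_of_regSeq rs ⊥ h)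

theorem regSeq_bot_of_isWeaklyRegular_self (rs : List R) (h : IsWeaklyRegular R rs) :
    RegSeq (⊥ : Ideal R) rs :=
  regSeq_of_isWeaklyRegular rs ⊥
    (((Submodule.quotEquivOfEqBot (⊥ : Ideal R) rfl).isWeaklyRegular_congr rs).mpr h)

section map

variable {R' : Type*} [CommRing R'] (π : R →+* R') (hπ : Function.Surjective π)
include hπ

theorem qReg_map (K : Ideal R) (hK : RingHom.ker π ≤ K) (r : R) (h : QReg K r) :
    QReg (K.map π) (π r) := by
  intro y hy
  obtain ⟨x, rfl⟩ := hπ y
  rw [← map_mul] at hy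
  have hc : (K.map π).comap π = K := by
    rw [Ideal.comap_map_of_surjective π hπ, ← RingHom.ker_eq_comap_bot, sup_eq_left]
    exact hK
  have h1 : r * x ∈ (K.map π).comap π := hy
  rw [hc] at h1
  exact Ideal.mem_map_of_mem π (h x h1)

theorem regSeq_map (rs : List R) :
    ∀ K : Ideal R, RingHom.ker π ≤ K → RegSeq K rs → RegSeq (K.map π) (rs.map π) := by
  induction rs with
  | nil => intro K _ _; trivial
  | cons r rs ih =>
    intro K hK h
    refine ⟨qReg_map π hπ K hK r h.1, ?_⟩
    have := ih (K ⊔ Ideal.span {r}) (hK.trans le_sup_left) h.2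
    rwa [Ideal.map_sup, Ideal.map_span, Set.image_singleton] at this

theorem qReg_of_map (K : Ideal R) (hK : RingHom.ker π ≤ K) (r : R)
    (h : QReg (K.map π) (π r)) : QReg K r := by
  intro x hx
  have hc : (K.map π).comap π = K := by
    rw [Ideal.comap_map_of_surjective π hπ, ← RingHom.ker_eq_comap_bot, sup_eq_left]
    exact hK
  have h1 : π x ∈ K.map π := h (π x) (by rw [← map_mul]; exact Ideal.mem_map_of_mem π hx)
  have h2 : x ∈ (K.map π).comap π := h1
  rwa [hc] at h2

theorem regSeq_of_map (rs : List R) :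
    ∀ K : Ideal R, RingHom.ker π ≤ K → RegSeq (K.map π) (rs.map π) → RegSeq K rs := by
  induction rs with
  | nil => intro K _ _; trivial
  | cons r rs ih =>
    intro K hK h
    rw [List.map_cons, regSeq_cons] at h
    refine ⟨qReg_of_map π hπ K hK r h.1, ih (K ⊔ Ideal.span {r}) (hK.trans le_sup_left) ?_⟩
    rw [Ideal.map_sup, Ideal.map_span, Set.image_singleton]
    exact h.2

end map

theorem qReg_mul_unit (K : Ideal R) (r u : R) (hu : IsUnit u) (h : QReg K r) : QReg K (r * u) := by
  intro x hx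
  obtain ⟨v, rfl⟩ := hu
  have h1 : r * ((v : R) * x) ∈ K := by rwa [← mul_assoc]
  have h2 := h _ h1
  have h3 : ((v⁻¹ : Rˣ) : R) * ((v : R) * x) ∈ K := Ideal.mul_mem_left _ _ h2
  rwa [← mul_assoc, Units.inv_mul, one_mul] at h3

theorem span_singleton_mul_unit (r u : R) (hu : IsUnit u) :
    Ideal.span {r * u} = Ideal.span {r} :=
  Ideal.span_singleton_mul_right_unit hu r

theorem regSeq_of_forall₂_unit {rs rs' : List R}
    (h : List.Forall₂ (fun r r' => ∃ u, IsUnit u ∧ r' = r * u) rs rs') :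
    ∀ K : Ideal R, RegSeq K rs → RegSeq K rs' := by
  induction h with
  | nil => intro K _; trivial
  | cons hab _ ih =>
    intro K hK
    obtain ⟨u, hu, rfl⟩ := hab
    refine ⟨qReg_mul_unit K _ u hu hK.1, ?_⟩
    rw [span_singleton_mul_unit _ u hu]
    exact ih _ hK.2

theorem ofList_eq_of_forall₂_unit {rs rs' : List R}
    (h : List.Forall₂ (fun r r' => ∃ u, IsUnit u ∧ r' = r * u) rs rs') :
    Ideal.ofList rs' = Ideal.ofList rs := by
  induction h with
  | nil => rfl
  | cons hab _ ih =>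
    obtain ⟨u, hu, rfl⟩ := hab
    rw [Ideal.ofList_cons, Ideal.ofList_cons, span_singleton_mul_unit _ u hu, ih]

end Groth.Agent.H47.CMSlice
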