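import Mathlib
import Groth.Agent.H47.CMSlice.RegSeq
import Groth.Agent.H47.QF.CMPoint

/-!
# A regular system of parameters of a Cohen–Macaulay fibre ring, lifted to a chart (helper47)
-/

set_option autoImplicit false
set_option linter.unusedSectionVars false
set_option linter.style.haveILetI false
universe u

namespace Groth.Agent.H47.CMSlice

open RingTheory.Sequence

/-- `Bq` a localization of `B` at `q`, `J` an ideal with `Bq ⧸ J` Cohen–Macaulay: there is a list
`hs` in `q` which is a regular sequence modulo `J` in `Bq` and such that the only prime of `Bq`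
containing `J` and `hs` is the maximal ideal. -/
theorem exists_list_of_cm (B : Type u) [CommRing B] (q : Ideal B) [q.IsPrime] (Bq : Type u)
    [CommRing Bq] [Algebra B Bq] [IsLocalization.AtPrime Bq q] [IsLocalRing Bq]
    (J : Ideal Bq) [LocCoh.IsCohenMacaulayLocalRing (Bq ⧸ J)] :
    ∃ hs : List B, (∀ h ∈ hs, h ∈ q) ∧ RegSeq J (hs.map (algebraMap B Bq)) ∧
      ∀ P : Ideal Bq, P.IsPrime → J ≤ P → (∀ h ∈ hs, algebraMap B Bq h ∈ P) →
        P = IsLocalRing.maximalIdeal Bq := by
  haveI : IsLocalRing (Bq ⧸ J) := LocCoh.IsCohenMacaulayLocalRing.toIsLocalRing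
  obtain ⟨rs, hreg, hmem, hprime⟩ := Groth.Agent.H47.QF.exists_regular_seq_forall_prime (Bq ⧸ J)
  have hsel : ∀ r : Bq ⧸ J, ∃ b : B, ∃ u : Bq ⧸ J, IsUnit u ∧
      Ideal.Quotient.mk J (algebraMap B Bq b) = r * u := by
    intro r
    obtain ⟨f, rfl⟩ := Ideal.Quotient.mk_surjective r
    obtain ⟨⟨b, s⟩, hbs⟩ := IsLocalization.surj q.primeCompl f
    refine ⟨b, Ideal.Quotient.mk J (algebraMap B Bq s),
      (IsLocalization.map_units Bq s).map (Ideal.Quotient.mk J), ?_⟩
    rw [← map_mul, hbs]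
  choose bsel usel hu hbu using hsel
  have hJne : J ≠ ⊤ := by
    intro h
    have : Subsingleton (Bq ⧸ J) := Ideal.Quotient.subsingleton_iff.mpr h
    exact not_subsingleton (Bq ⧸ J) this
  have hJle : J ≤ IsLocalRing.maximalIdeal Bq := IsLocalRing.le_maximalIdeal hJne
  have hcomap : (IsLocalRing.maximalIdeal (Bq ⧸ J)).comap (Ideal.Quotient.mk J) =
      IsLocalRing.maximalIdeal Bq := by
    haveI : ((IsLocalRing.maximalIdeal (Bq ⧸ J)).comap (Ideal.Quotient.mk J)).IsMaximal :=
      Ideal.comap_isMaximal_of_surjective _ Ideal.Quotient.mk_surjective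
    exact IsLocalRing.eq_maximalIdeal inferInstance
  refine ⟨rs.map bsel, ?_, ?_, ?_⟩
  · intro h hh
    obtain ⟨r, hr, rfl⟩ := List.mem_map.mp hh
    have h1 : r * usel r ∈ IsLocalRing.maximalIdeal (Bq ⧸ J) :=
      Ideal.mul_mem_right _ _ (hmem r hr)
    rw [← hbu r] at h1
    have h2 : algebraMap B Bq (bsel r) ∈
        (IsLocalRing.maximalIdeal (Bq ⧸ J)).comap (Ideal.Quotient.mk J) := h1
    rw [hcomap] at h2
    exact (IsLocalization.AtPrime.to_map_mem_maximal_iff Bq q (bsel r)).mp h2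
  · refine regSeq_of_map (Ideal.Quotient.mk J) Ideal.Quotient.mk_surjective _ J
      (by rw [Ideal.mk_ker]) ?_
    rw [Ideal.map_quotient_self]
    have h0 : RegSeq (⊥ : Ideal (Bq ⧸ J)) rs := regSeq_bot_of_isWeaklyRegular_self rs hreg
    refine regSeq_of_forall₂_unit ?_ ⊥ h0
    rw [List.map_map, List.map_map]
    refine List.forall₂_map_right_iff.mpr (List.forall₂_same.mpr fun r _ => ?_)
    exact ⟨usel r, hu r, hbu r⟩
  · intro P hP hJP hhs
    have hPD : (P.map (Ideal.Quotient.mk J)).IsPrime :=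
      Ideal.map_isPrime_of_surjective Ideal.Quotient.mk_surjective (by rwa [Ideal.mk_ker])
    have hle : Ideal.ofList rs ≤ P.map (Ideal.Quotient.mk J) := by
      rw [Ideal.ofList, Ideal.span_le]
      intro r hr
      have h1 : r * usel r ∈ P.map (Ideal.Quotient.mk J) := by
        rw [← hbu r]
        exact Ideal.mem_map_of_mem _ (hhs _ (List.mem_map_of_mem hr))
      obtain ⟨v, hv⟩ := hu r
      have h2 : r * usel r * ((v⁻¹ : (Bq ⧸ J)ˣ) : Bq ⧸ J) ∈ P.map (Ideal.Quotient.mk J) :=
        Ideal.mul_mem_right _ _ h1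
      rwa [← hv, mul_assoc, Units.mul_inv, mul_one] at h2
    have hmax := hprime _ hPD hle
    have h3 : (P.map (Ideal.Quotient.mk J)).comap (Ideal.Quotient.mk J) = P := by
      rw [Ideal.comap_map_of_surjective _ Ideal.Quotient.mk_surjective,
        ← RingHom.ker_eq_comap_bot, Ideal.mk_ker, sup_eq_left]
      exact hJP
    rw [← h3, hmax, hcomap]

end Groth.Agent.H47.CMSlice
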