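import Mathlib

/-!
# Localization bookkeeping for slicing (helper47)

Localizations of quotients and of localizations, in the forms needed to iterate helper49's
one-element slicing theorem.
-/

set_option autoImplicit false
set_option linter.unusedSectionVars false
set_option linter.style.haveILetI false

namespace Groth.Agent.H47.CMSlice

section quot

variable {R : Type*} [CommRing R] (I : Ideal R) (S : Type*) [CommRing S] [Algebra R S]

/-- the scalar tower `A → R ⧸ I → S ⧸ I S`. -/
instance isScalarTower_quotient_map {A : Type*} [CommRing A] [Algebra A R] [Algebra A S]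
    [IsScalarTower A R S] : IsScalarTower A (R ⧸ I) (S ⧸ I.map (algebraMap R S)) :=
  IsScalarTower.of_algebraMap_eq (fun a => by
    change Ideal.Quotient.mk _ (algebraMap A S a) =
      Ideal.Quotient.mk _ (algebraMap R S (algebraMap A R a))
    rw [← IsScalarTower.algebraMap_apply A R S])

/-- localization at a prime commutes with quotients. -/
theorem isLocalization_atPrime_quotient (q : Ideal R) [q.IsPrime] (hI : I ≤ q)
    [IsLocalization.AtPrime S q] [hq' : (q.map (Ideal.Quotient.mk I)).IsPrime] :
    IsLocalization.AtPrime (S ⧸ I.map (algebraMap R S)) (q.map (Ideal.Quotient.mk I)) := by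
  have hEq : Algebra.algebraMapSubmonoid (R ⧸ I) q.primeCompl =
      (q.map (Ideal.Quotient.mk I)).primeCompl := by
    have hc : (q.map (Ideal.Quotient.mk I)).comap (Ideal.Quotient.mk I) = q := by
      rw [Ideal.comap_map_of_surjective _ Ideal.Quotient.mk_surjective,
        ← RingHom.ker_eq_comap_bot, Ideal.mk_ker, sup_eq_left]
      exact hI
    ext y
    constructor
    · rintro ⟨x, hx, rfl⟩
      intro hy
      apply hx
      have : x ∈ (q.map (Ideal.Quotient.mk I)).comap (Ideal.Quotient.mk I) := hy
      rwa [hc] at this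
    · intro hy
      obtain ⟨x, rfl⟩ := Ideal.Quotient.mk_surjective y
      refine ⟨x, ?_, rfl⟩
      intro hx
      exact hy (Ideal.mem_map_of_mem _ hx)
  have := (inferInstance : IsLocalization (Algebra.algebraMapSubmonoid (R ⧸ I) q.primeCompl)
    (S ⧸ I.map (algebraMap R S)))
  rw [hEq] at this
  exact this

/-- localization away from an element commutes with quotients. -/
theorem isLocalization_away_quotient (c : R) [IsLocalization.Away c S] :
    IsLocalization.Away (Ideal.Quotient.mk I c) (S ⧸ I.map (algebraMap R S)) := by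
  have hEq : Algebra.algebraMapSubmonoid (R ⧸ I) (Submonoid.powers c) =
      Submonoid.powers (Ideal.Quotient.mk I c) := by
    rw [Algebra.algebraMapSubmonoid, Submonoid.map_powers]
    rfl
  have := (inferInstance : IsLocalization (Algebra.algebraMapSubmonoid (R ⧸ I) (Submonoid.powers c))
    (S ⧸ I.map (algebraMap R S)))
  rw [hEq] at this
  exact this

end quot

section tower

variable {B : Type*} [CommRing B] (q : Ideal B) [q.IsPrime]
  (B₁ : Type*) [CommRing B₁] [Algebra B B₁] (g₁ : B) [IsLocalization.Away g₁ B₁]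

include g₁ in
theorem isPrime_map_away (hg₁ : g₁ ∉ q) : (q.map (algebraMap B B₁)).IsPrime := by
  refine IsLocalization.isPrime_of_isPrime_disjoint (Submonoid.powers g₁) B₁ q inferInstance ?_
  rw [Set.disjoint_left]
  rintro x ⟨n, rfl⟩ hx
  exact hg₁ (Ideal.IsPrime.mem_of_pow_mem inferInstance n hx)

include g₁ in
theorem comap_map_away (hg₁ : g₁ ∉ q) :
    (q.map (algebraMap B B₁)).comap (algebraMap B B₁) = q := by
  refine IsLocalization.under_map_of_isPrime_disjoint (Submonoid.powers g₁) B₁ inferInstance ?_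
  rw [Set.disjoint_left]
  rintro x ⟨n, rfl⟩ hx
  exact hg₁ (Ideal.IsPrime.mem_of_pow_mem inferInstance n hx)

/-- a localization of `B` at `q` is a localization of `B_{g₁}` at `q B_{g₁}`. -/
theorem isLocalization_atPrime_of_away (hg₁ : g₁ ∉ q)
    (Bq : Type*) [CommRing Bq] [Algebra B Bq] [IsLocalization.AtPrime Bq q]
    [Algebra B₁ Bq] [IsScalarTower B B₁ Bq] [hq₁ : (q.map (algebraMap B B₁)).IsPrime] :
    IsLocalization.AtPrime Bq (q.map (algebraMap B B₁)) := by
  have hle : Submonoid.powers g₁ ≤ q.primeCompl := by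
    rintro x ⟨n, rfl⟩ hx
    exact hg₁ (Ideal.IsPrime.mem_of_pow_mem inferInstance n hx)
  haveI : IsLocalization (Submonoid.map (algebraMap B B₁) q.primeCompl) Bq :=
    IsLocalization.isLocalization_of_submonoid_le B₁ Bq (Submonoid.powers g₁) q.primeCompl hle
  have hc := comap_map_away q B₁ g₁ hg₁
  refine IsLocalization.isLocalization_of_is_exists_mul_mem Bq
    (Submonoid.map (algebraMap B B₁) q.primeCompl) _ ?_ ?_
  · rintro _ ⟨x, hx, rfl⟩ hx'
    apply hx
    have : x ∈ (q.map (algebraMap B B₁)).comap (algebraMap B B₁) := hx'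
    rwa [hc] at this
  · rintro ⟨x, hx⟩
    obtain ⟨n, a, ha⟩ := IsLocalization.Away.surj g₁ x (S := B₁)
    refine ⟨algebraMap B B₁ g₁ ^ n, a, ?_, ?_⟩
    · intro ha'
      apply hx
      have h1 : algebraMap B B₁ a ∈ q.map (algebraMap B B₁) := Ideal.mem_map_of_mem _ ha'
      rw [← ha] at h1
      obtain ⟨v, hv⟩ := IsLocalization.Away.algebraMap_pow_isUnit (S := B₁) g₁ n
      have h2 : x * (v : B₁) * ((v⁻¹ : B₁ˣ) : B₁) ∈ q.map (algebraMap B B₁) := by
        rw [hv]; exact Ideal.mul_mem_right _ _ h1
      rwa [mul_assoc, Units.mul_inv, mul_one] at h2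
    · rw [mul_comm]; exact ha.symm

/-- a localization of `B_{g₁}` away from `c` is a localization of `B` away from some `g ∉ q`. -/
theorem exists_away_of_away_away (hg₁ : g₁ ∉ q) (c : B₁) (hc : c ∉ q.map (algebraMap B B₁))
    (B₂ : Type*) [CommRing B₂] [Algebra B₁ B₂] [IsLocalization.Away c B₂] [Algebra B B₂]
    [IsScalarTower B B₁ B₂] :
    ∃ g : B, g ∉ q ∧ IsLocalization.Away g B₂ := by
  obtain ⟨n, a, ha⟩ := IsLocalization.Away.surj g₁ c (S := B₁)
  have hu : IsUnit (algebraMap B B₁ g₁ ^ n) := IsLocalization.Away.algebraMap_pow_isUnit g₁ n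
  refine ⟨g₁ * a, ?_, ?_⟩
  · intro h
    rcases Ideal.IsPrime.mem_or_mem inferInstance h with h | h
    · exact hg₁ h
    · apply hc
      have h1 : algebraMap B B₁ a ∈ q.map (algebraMap B B₁) := Ideal.mem_map_of_mem _ h
      rw [← ha] at h1
      obtain ⟨v, hv⟩ := hu
      have h2 : c * (v : B₁) * ((v⁻¹ : B₁ˣ) : B₁) ∈ q.map (algebraMap B B₁) := by
        rw [hv]; exact Ideal.mul_mem_right _ _ h1
      rwa [mul_assoc, Units.mul_inv, mul_one] at h2
  · refine IsLocalization.Away.mul_of_associated (S := B₁) g₁ a c ?_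
    rw [← ha]
    obtain ⟨v, hv⟩ := hu
    exact ⟨v⁻¹, by rw [← hv, mul_assoc, Units.mul_inv, mul_one]⟩

end tower

end Groth.Agent.H47.CMSlice
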