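import Mathlib
import Groth.Agent.H47.CMSlice.RegSeq
import Groth.Agent.H47.CMSlice.Loc
import Groth.Agent.H49.SliceCore
import Groth.Agent.H49.SliceShrink
import Groth.Agent.H94.RegSeqAppend

/-!
# Slicing a flat finitely presented algebra by a fibrewise regular sequence (helper47)

Iteration of helper49's one-element slicing theorem `H49.SliceCore.core` (EGA IV 11.3.8) along a
sequence which is regular on the local ring of the fibre.
-/

set_option autoImplicit false
set_option linter.unusedSectionVars false
set_option linter.style.haveILetI false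
universe u

namespace Groth.Agent.H47.CMSlice

open RingTheory.Sequence Groth.Agent.H49.FlatApprox

/-- `rs` is weakly regular on `C` and `C ⧸ (rs)` is flat over `A`. -/
def Good (A : Type u) [CommRing A] (C : Type u) [CommRing C] [Algebra A C] (rs : List C) : Prop :=
  IsWeaklyRegular C rs ∧ Module.Flat A (C ⧸ Ideal.ofList rs)

theorem isWeaklyRegular_singleton_of_nzd {C : Type*} [CommRing C] (r : C)
    (h : r ∈ nonZeroDivisors C) : IsWeaklyRegular C [r] := by
  rw [isWeaklyRegular_singleton_iff, isSMulRegular_iff_right_eq_zero_of_smul]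
  intro m hm
  rw [smul_eq_mul, mul_comm] at hm
  exact (mem_nonZeroDivisors_iff_right.mp h) m hm

/-- transport of weak regularity along a ring isomorphism. -/
theorem isWeaklyRegular_of_ringEquiv {C C' : Type*} [CommRing C] [CommRing C'] (e : C ≃+* C')
    (rs : List C) (h : IsWeaklyRegular C rs) : IsWeaklyRegular C' (rs.map e) := by
  refine (e.toAddEquiv.isWeaklyRegular_congr (as := rs) (bs := rs.map e) ?_).mp h
  refine List.forall₂_map_right_iff.mpr (List.forall₂_same.mpr fun r _ x => ?_)
  change e (r * x) = e r * e x
  exact map_mul e r x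

/-- reassembling: `h₁` a nonzerodivisor of `B₁`, `ts` good on a localization of `B₁ ⧸ (h₁)`;
then `h₁ :: ts` is good on the corresponding localization of `B₁`. -/
theorem assemble (A : Type u) [CommRing A] (B₁ : Type u) [CommRing B₁] [Algebra A B₁] (h₁ : B₁)
    (c : B₁) (B₂ : Type u) [CommRing B₂] [Algebra B₁ B₂] [IsLocalization.Away c B₂] [Algebra A B₂]
    [IsScalarTower A B₁ B₂]
    (B' : Type u) [CommRing B'] [Algebra (B₁ ⧸ Ideal.span {h₁}) B'] [Algebra A B']
    [IsScalarTower A (B₁ ⧸ Ideal.span {h₁}) B']
    [IsLocalization.Away (Ideal.Quotient.mk (Ideal.span {h₁}) c) B']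
    (hnzd : h₁ ∈ nonZeroDivisors B₁) (ts : List B₁)
    (hgood : Good A B' (ts.map (fun t =>
      algebraMap (B₁ ⧸ Ideal.span {h₁}) B' (Ideal.Quotient.mk (Ideal.span {h₁}) t)))) :
    Good A B₂ ((h₁ :: ts).map (algebraMap B₁ B₂)) := by
  haveI : IsLocalization.Away (Ideal.Quotient.mk (Ideal.span {h₁}) c)
      (B₂ ⧸ (Ideal.span {h₁}).map (algebraMap B₁ B₂)) :=
    isLocalization_away_quotient (Ideal.span {h₁}) B₂ c
  let e : B' ≃ₐ[B₁ ⧸ Ideal.span {h₁}] (B₂ ⧸ (Ideal.span {h₁}).map (algebraMap B₁ B₂)) :=
    IsLocalization.algEquiv (Submonoid.powers (Ideal.Quotient.mk (Ideal.span {h₁}) c)) B'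
      (B₂ ⧸ (Ideal.span {h₁}).map (algebraMap B₁ B₂))
  let ρ : B₂ →+* B₂ ⧸ (Ideal.span {h₁}).map (algebraMap B₁ B₂) := Ideal.Quotient.mk _
  have hρ : Function.Surjective ρ := Ideal.Quotient.mk_surjective
  have key : ∀ t : B₁, e (algebraMap (B₁ ⧸ Ideal.span {h₁}) B'
      (Ideal.Quotient.mk (Ideal.span {h₁}) t)) = ρ (algebraMap B₁ B₂ t) := by
    intro t
    rw [e.commutes]
    rfl
  have hI₂' : (Ideal.span {h₁}).map (algebraMap B₁ B₂) = Ideal.ofList [algebraMap B₁ B₂ h₁] := by
    rw [Ideal.ofList_singleton, Ideal.map_span, Set.image_singleton]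
  have hlist : (ts.map (fun t => algebraMap (B₁ ⧸ Ideal.span {h₁}) B'
      (Ideal.Quotient.mk (Ideal.span {h₁}) t))).map e = (ts.map (algebraMap B₁ B₂)).map ρ := by
    rw [List.map_map, List.map_map]
    exact List.map_congr_left fun t _ => key t
  obtain ⟨hreg, hflat⟩ := hgood
  have hreg₂ : IsWeaklyRegular (B₂ ⧸ (Ideal.span {h₁}).map (algebraMap B₁ B₂))
      ((ts.map (algebraMap B₁ B₂)).map ρ) := by
    rw [← hlist]
    exact isWeaklyRegular_of_ringEquiv e.toRingEquiv _ hreg
  have h1 : IsWeaklyRegular B₂ [algebraMap B₁ B₂ h₁] :=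
    (isWeaklyRegular_singleton_of_nzd h₁ hnzd).of_isLocalization B₂ (Submonoid.powers c)
  refine ⟨?_, ?_⟩
  · rw [List.map_cons]
    exact Groth.Agent.H94.RegSeqAppend.isWeaklyRegular_append_of_surjective ρ hρ
      [algebraMap B₁ B₂ h₁] (by rw [Ideal.mk_ker, hI₂']) h1 (ts.map (algebraMap B₁ B₂)) hreg₂
  · -- flatness
    let eA : B' ≃ₐ[A] (B₂ ⧸ (Ideal.span {h₁}).map (algebraMap B₁ B₂)) := e.restrictScalars A
    have hJ : (Ideal.ofList (ts.map (algebraMap B₁ B₂))).map
        (Ideal.Quotient.mkₐ A ((Ideal.span {h₁}).map (algebraMap B₁ B₂))) =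
        Ideal.map (eA : B' →+* B₂ ⧸ (Ideal.span {h₁}).map (algebraMap B₁ B₂))
          (Ideal.ofList (ts.map (fun t =>
          algebraMap (B₁ ⧸ Ideal.span {h₁}) B' (Ideal.Quotient.mk (Ideal.span {h₁}) t)))) := by
      have h2 : Ideal.map (Ideal.Quotient.mkₐ A ((Ideal.span {h₁}).map (algebraMap B₁ B₂)))
          (Ideal.ofList (ts.map (algebraMap B₁ B₂))) =
          Ideal.map ρ (Ideal.ofList (ts.map (algebraMap B₁ B₂))) := rfl
      rw [h2, Ideal.map_ofList, Ideal.map_ofList]
      exact congrArg Ideal.ofList hlist.symm
    have e1 := Ideal.quotientEquivAlg _ _ eA hJ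
    have e2 := DoubleQuot.quotQuotEquivQuotSupₐ A ((Ideal.span {h₁}).map (algebraMap B₁ B₂))
      (Ideal.ofList (ts.map (algebraMap B₁ B₂)))
    have hEq : (Ideal.span {h₁}).map (algebraMap B₁ B₂) ⊔
        Ideal.ofList (ts.map (algebraMap B₁ B₂)) =
        Ideal.ofList ((h₁ :: ts).map (algebraMap B₁ B₂)) := by
      rw [List.map_cons, Ideal.ofList_cons, hI₂', Ideal.ofList_singleton]
    have e3 := Ideal.quotientEquivAlgOfEq A hEq
    exact Module.Flat.of_linearEquiv ((e1.trans e2).trans e3).symm.toLinearEquiv

/-- **Slicing by a fibrewise regular sequence**, flat finitely presented case. -/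
theorem slice_list_flat (H : Hyp4848.{u}) (A : Type u) [CommRing A] (n : ℕ) :
    ∀ (B : Type u) [CommRing B] [Algebra A B] [Algebra.FinitePresentation A B] [Module.Flat A B]
      (q : Ideal B) [q.IsPrime] (Bq : Type u) [CommRing Bq] [Algebra B Bq]
      [IsLocalization.AtPrime Bq q] [Algebra A Bq] [IsScalarTower A B Bq]
      (hs : List B), hs.length = n → (∀ h ∈ hs, h ∈ q) →
      RegSeq ((q.comap (algebraMap A B)).map (algebraMap A Bq)) (hs.map (algebraMap B Bq)) →
      ∃ g : B, g ∉ q ∧ ∃ (Bg : Type u) (_ : CommRing Bg) (_ : Algebra B Bg) (_ : Algebra A Bg)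
        (_ : IsScalarTower A B Bg), IsLocalization.Away g Bg ∧
          Good A Bg (hs.map (algebraMap B Bg)) := by
  induction n with
  | zero =>
    intro B _ _ _ _ q _ Bq _ _ _ _ _ hs hlen _ _
    obtain rfl : hs = [] := List.length_eq_zero_iff.mp hlen
    refine ⟨1, fun h1 => (Ideal.IsPrime.ne_top inferInstance) ((Ideal.eq_top_iff_one q).mpr h1),
      B, inferInstance, inferInstance, inferInstance, inferInstance,
      IsLocalization.away_of_isUnit_of_bijective B isUnit_one Function.bijective_id, ?_, ?_⟩
    · exact IsWeaklyRegular.nil _ _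
    · rw [List.map_nil, Ideal.ofList_nil]
      exact Module.Flat.of_linearEquiv
        ((Submodule.quotEquivOfEqBot (⊥ : Ideal B) rfl).restrictScalars A)
  | succ n ih =>
    intro B _ _ _ _ q _ Bq _ _ _ _ _ hs hlen hmem hreg
    obtain ⟨h, hs', rfl⟩ : ∃ h hs', hs = h :: hs' := by
      cases hs with
      | nil => simp at hlen
      | cons h hs' => exact ⟨h, hs', rfl⟩
    have hlen' : hs'.length = n := by simpa using hlen
    have hhq : h ∈ q := hmem h (List.mem_cons_self)
    have hmem' : ∀ x ∈ hs', x ∈ q := fun x hx => hmem x (List.mem_cons_of_mem _ hx)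
    rw [List.map_cons, regSeq_cons] at hreg
    obtain ⟨hreg1, hreg2⟩ := hreg
    -- apply the one-element slicing theorem
    have hJ : ((q.comap (algebraMap A B)).map (algebraMap A B)).map (algebraMap B Bq) =
        (q.comap (algebraMap A B)).map (algebraMap A Bq) := by
      rw [Ideal.map_map, ← IsScalarTower.algebraMap_eq]
    have hreg' : Ideal.Quotient.mk
        (((q.comap (algebraMap A B)).map (algebraMap A B)).map (algebraMap B Bq))
        (algebraMap B Bq h) ∈ nonZeroDivisors _ :=
      Groth.Agent.H49.SliceModel.nzd_quotient_of_ideal_eq _ _ hJ.symm _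
        ((qReg_iff_mem_nonZeroDivisors _ _).mp hreg1)
    obtain ⟨g₁, hg₁, hcore⟩ := Groth.Agent.H49.SliceCore.core H A B q Bq h hreg'
    obtain ⟨hnzd, hfl⟩ := hcore (Localization.Away g₁)
    -- the sliced algebra `B' = B_{g₁} ⧸ (h)`
    haveI : Algebra.FinitePresentation A (Localization.Away g₁) :=
      Algebra.FinitePresentation.trans A B (Localization.Away g₁)
    haveI : Algebra.FinitePresentation A
        (Localization.Away g₁ ⧸ Ideal.span {algebraMap B (Localization.Away g₁) h}) :=
      Algebra.FinitePresentation.quotient ⟨{algebraMap B (Localization.Away g₁) h}, by simp⟩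
    haveI : Module.Flat A
        (Localization.Away g₁ ⧸ Ideal.span {algebraMap B (Localization.Away g₁) h}) := hfl
    -- primes
    haveI hq₁ : (q.map (algebraMap B (Localization.Away g₁))).IsPrime :=
      isPrime_map_away q (Localization.Away g₁) g₁ hg₁
    have hI₁le : Ideal.span {algebraMap B (Localization.Away g₁) h} ≤
        q.map (algebraMap B (Localization.Away g₁)) := by
      rw [Ideal.span_le, Set.singleton_subset_iff]
      exact Ideal.mem_map_of_mem _ hhq
    haveI hq' : ((q.map (algebraMap B (Localization.Away g₁))).map (Ideal.Quotient.mk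
        (Ideal.span {algebraMap B (Localization.Away g₁) h}))).IsPrime :=
      Ideal.map_isPrime_of_surjective Ideal.Quotient.mk_surjective (by rwa [Ideal.mk_ker])
    -- `Bq` as an algebra over `B_{g₁}`
    have hu : IsUnit (algebraMap B Bq g₁) :=
      (IsLocalization.AtPrime.isUnit_to_map_iff Bq q g₁).mpr hg₁
    letI alg₁ : Algebra (Localization.Away g₁) Bq := (IsLocalization.Away.lift g₁ hu).toAlgebra
    haveI tow₁ : IsScalarTower B (Localization.Away g₁) Bq :=
      IsScalarTower.of_algebraMap_eq (fun b => (IsLocalization.Away.lift_eq g₁ hu b).symm)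
    haveI towA₁ : IsScalarTower A (Localization.Away g₁) Bq :=
      IsScalarTower.of_algebraMap_eq (fun a => by
        rw [IsScalarTower.algebraMap_apply A B Bq, IsScalarTower.algebraMap_apply A B
          (Localization.Away g₁), ← IsScalarTower.algebraMap_apply B (Localization.Away g₁) Bq])
    haveI : IsLocalization.AtPrime Bq (q.map (algebraMap B (Localization.Away g₁))) :=
      isLocalization_atPrime_of_away q (Localization.Away g₁) g₁ hg₁ Bq
    haveI : IsLocalization.AtPrime
        (Bq ⧸ (Ideal.span {algebraMap B (Localization.Away g₁) h}).map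
          (algebraMap (Localization.Away g₁) Bq))
        ((q.map (algebraMap B (Localization.Away g₁))).map (Ideal.Quotient.mk
          (Ideal.span {algebraMap B (Localization.Away g₁) h}))) :=
      isLocalization_atPrime_quotient _ Bq _ hI₁le
    -- the hypotheses of the induction hypothesis
    have hcomapq : (q.map (algebraMap B (Localization.Away g₁))).comap
        (algebraMap B (Localization.Away g₁)) = q := comap_map_away q _ g₁ hg₁
    have hcomapq' : (((q.map (algebraMap B (Localization.Away g₁))).map (Ideal.Quotient.mk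
        (Ideal.span {algebraMap B (Localization.Away g₁) h}))).comap (Ideal.Quotient.mk
        (Ideal.span {algebraMap B (Localization.Away g₁) h}))) =
        q.map (algebraMap B (Localization.Away g₁)) := by
      rw [Ideal.comap_map_of_surjective _ Ideal.Quotient.mk_surjective,
        ← RingHom.ker_eq_comap_bot, Ideal.mk_ker, sup_eq_left]
      exact hI₁le
    have hp' : ((q.map (algebraMap B (Localization.Away g₁))).map (Ideal.Quotient.mk
        (Ideal.span {algebraMap B (Localization.Away g₁) h}))).comap
        (algebraMap A (Localization.Away g₁ ⧸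
          Ideal.span {algebraMap B (Localization.Away g₁) h})) = q.comap (algebraMap A B) := by
      ext a
      rw [Ideal.mem_comap, Ideal.mem_comap]
      change Ideal.Quotient.mk _ (algebraMap A (Localization.Away g₁) a) ∈ _ ↔ _
      rw [← Ideal.mem_comap, hcomapq', IsScalarTower.algebraMap_apply A B (Localization.Away g₁),
        ← Ideal.mem_comap, hcomapq]
    have hmem'' : ∀ x ∈ hs'.map (fun b => Ideal.Quotient.mk
        (Ideal.span {algebraMap B (Localization.Away g₁) h})
        (algebraMap B (Localization.Away g₁) b)),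
        x ∈ (q.map (algebraMap B (Localization.Away g₁))).map (Ideal.Quotient.mk
        (Ideal.span {algebraMap B (Localization.Away g₁) h})) := by
      intro x hx
      obtain ⟨b, hb, rfl⟩ := List.mem_map.mp hx
      exact Ideal.mem_map_of_mem _ (Ideal.mem_map_of_mem _ (hmem' b hb))
    have hmaph : (Ideal.span {algebraMap B (Localization.Away g₁) h}).map
        (algebraMap (Localization.Away g₁) Bq) = Ideal.span {algebraMap B Bq h} := by
      rw [Ideal.map_span, Set.image_singleton,
        ← IsScalarTower.algebraMap_apply B (Localization.Away g₁) Bq]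
    have hreg'' : RegSeq
        ((((q.map (algebraMap B (Localization.Away g₁))).map (Ideal.Quotient.mk
          (Ideal.span {algebraMap B (Localization.Away g₁) h}))).comap
          (algebraMap A (Localization.Away g₁ ⧸
            Ideal.span {algebraMap B (Localization.Away g₁) h}))).map
          (algebraMap A (Bq ⧸ (Ideal.span {algebraMap B (Localization.Away g₁) h}).map
            (algebraMap (Localization.Away g₁) Bq))))
        ((hs'.map (fun b => Ideal.Quotient.mk
          (Ideal.span {algebraMap B (Localization.Away g₁) h})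
          (algebraMap B (Localization.Away g₁) b))).map
          (algebraMap (Localization.Away g₁ ⧸ Ideal.span {algebraMap B (Localization.Away g₁) h})
            (Bq ⧸ (Ideal.span {algebraMap B (Localization.Away g₁) h}).map
              (algebraMap (Localization.Away g₁) Bq)))) := by
      have h1 := regSeq_map (Ideal.Quotient.mk ((Ideal.span {algebraMap B (Localization.Away g₁) h}).map
        (algebraMap (Localization.Away g₁) Bq))) Ideal.Quotient.mk_surjective
        (hs'.map (algebraMap B Bq)) _ (by rw [Ideal.mk_ker, hmaph]; exact le_sup_right) hreg2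
      have hideal : Ideal.map (Ideal.Quotient.mk ((Ideal.span
          {algebraMap B (Localization.Away g₁) h}).map (algebraMap (Localization.Away g₁) Bq)))
          ((q.comap (algebraMap A B)).map (algebraMap A Bq) ⊔ Ideal.span {algebraMap B Bq h}) =
          (q.comap (algebraMap A B)).map (algebraMap A (Bq ⧸ (Ideal.span
            {algebraMap B (Localization.Away g₁) h}).map
            (algebraMap (Localization.Away g₁) Bq))) := by
        rw [Ideal.map_sup, Ideal.map_map]
        have h0 : Ideal.map (Ideal.Quotient.mk ((Ideal.span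
            {algebraMap B (Localization.Away g₁) h}).map (algebraMap (Localization.Away g₁) Bq)))
            (Ideal.span {algebraMap B Bq h}) = ⊥ := by
          rw [Ideal.map_eq_bot_iff_le_ker, Ideal.mk_ker, hmaph]
        rw [h0, sup_bot_eq]
        rfl
      rw [hp', ← hideal]
      convert h1 using 1
      rw [List.map_map, List.map_map]
      refine List.map_congr_left fun b _ => ?_
      change Ideal.Quotient.mk _ (algebraMap (Localization.Away g₁) Bq
        (algebraMap B (Localization.Away g₁) b)) = Ideal.Quotient.mk _ (algebraMap B Bq b)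
      rw [← IsScalarTower.algebraMap_apply B (Localization.Away g₁) Bq]
    obtain ⟨g', hg', Bg', _, _, _, _, hAway', hgood'⟩ :=
      ih (Localization.Away g₁ ⧸ Ideal.span {algebraMap B (Localization.Away g₁) h})
        ((q.map (algebraMap B (Localization.Away g₁))).map (Ideal.Quotient.mk _))
        (Bq ⧸ (Ideal.span {algebraMap B (Localization.Away g₁) h}).map
          (algebraMap (Localization.Away g₁) Bq))
        (hs'.map (fun b => Ideal.Quotient.mk
          (Ideal.span {algebraMap B (Localization.Away g₁) h})
          (algebraMap B (Localization.Away g₁) b)))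
        (by rw [List.length_map]; exact hlen') hmem'' hreg''
    -- lift `g'` and assemble
    obtain ⟨c, rfl⟩ := Ideal.Quotient.mk_surjective g'
    have hc : c ∉ q.map (algebraMap B (Localization.Away g₁)) := fun hc =>
      hg' (Ideal.mem_map_of_mem _ hc)
    obtain ⟨g, hg, hAway⟩ := exists_away_of_away_away q (Localization.Away g₁) g₁ hg₁ c hc
      (Localization.Away c)
    refine ⟨g, hg, Localization.Away c, inferInstance, inferInstance, inferInstance, inferInstance,
      hAway, ?_⟩
    have hl : (hs'.map (algebraMap B (Localization.Away g₁))).map (fun t =>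
        algebraMap (Localization.Away g₁ ⧸ Ideal.span {algebraMap B (Localization.Away g₁) h}) Bg'
          (Ideal.Quotient.mk (Ideal.span {algebraMap B (Localization.Away g₁) h}) t)) =
        (hs'.map (fun b => Ideal.Quotient.mk
          (Ideal.span {algebraMap B (Localization.Away g₁) h})
          (algebraMap B (Localization.Away g₁) b))).map
          (algebraMap (Localization.Away g₁ ⧸ Ideal.span {algebraMap B (Localization.Away g₁) h})
            Bg') := by
      rw [List.map_map, List.map_map]
      rfl
    have hfin := assemble A (Localization.Away g₁) (algebraMap B (Localization.Away g₁) h) c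
      (Localization.Away c) Bg' hnzd (hs'.map (algebraMap B (Localization.Away g₁)))
      (by rw [hl]; exact hgood')
    have hl2 : (h :: hs').map (algebraMap B (Localization.Away c)) =
        (algebraMap B (Localization.Away g₁) h :: hs'.map (algebraMap B (Localization.Away g₁))).map
          (algebraMap (Localization.Away g₁) (Localization.Away c)) := by
      rw [← List.map_cons, List.map_map]
      refine List.map_congr_left fun b _ => ?_
      exact IsScalarTower.algebraMap_apply B (Localization.Away g₁) (Localization.Away c) b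
    rw [hl2]
    exact hfin

end Groth.Agent.H47.CMSlice
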