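import Mathlib
import Groth.Agent.H47.CMSlice.Step

/-!
# Slicing by a fibrewise regular sequence: the general finitely presented case (helper47)
-/

set_option autoImplicit false
set_option linter.unusedSectionVars false
set_option linter.style.haveILetI false
universe u

namespace Groth.Agent.H47.CMSlice

open RingTheory.Sequence Groth.Agent.H49.FlatApprox

/-- **Slicing by a fibrewise regular sequence**: `B` finitely presented over `A`, flat at `q`. -/
theorem slice_list (H : Hyp4848.{u}) (A : Type u) [CommRing A]
    (B : Type u) [CommRing B] [Algebra A B] [Algebra.FinitePresentation A B]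
    (q : Ideal B) [q.IsPrime] (Bq : Type u) [CommRing Bq] [Algebra B Bq]
    [IsLocalization.AtPrime Bq q] [Algebra A Bq] [IsScalarTower A B Bq]
    (hflat : Module.Flat A Bq)
    (hs : List B) (hmem : ∀ h ∈ hs, h ∈ q)
    (hreg : RegSeq ((q.comap (algebraMap A B)).map (algebraMap A Bq))
      (hs.map (algebraMap B Bq))) :
    ∃ g : B, g ∉ q ∧ ∃ (Bg : Type u) (_ : CommRing Bg) (_ : Algebra B Bg) (_ : Algebra A Bg)
      (_ : IsScalarTower A B Bg), IsLocalization.Away g Bg ∧
        Good A Bg (hs.map (algebraMap B Bg)) := by
  obtain ⟨g₀, hg₀, hshrink⟩ := Groth.Agent.H49.SliceShrink.exists_away_flat A B q Bq hflat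
  haveI : Module.Flat A (Localization.Away g₀) := hshrink (Localization.Away g₀)
  haveI : Algebra.FinitePresentation A (Localization.Away g₀) :=
    Algebra.FinitePresentation.trans A B (Localization.Away g₀)
  haveI hq₀ : (q.map (algebraMap B (Localization.Away g₀))).IsPrime :=
    isPrime_map_away q (Localization.Away g₀) g₀ hg₀
  have hu : IsUnit (algebraMap B Bq g₀) :=
    (IsLocalization.AtPrime.isUnit_to_map_iff Bq q g₀).mpr hg₀
  letI alg₀ : Algebra (Localization.Away g₀) Bq := (IsLocalization.Away.lift g₀ hu).toAlgebra
  haveI tow₀ : IsScalarTower B (Localization.Away g₀) Bq :=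
    IsScalarTower.of_algebraMap_eq (fun b => (IsLocalization.Away.lift_eq g₀ hu b).symm)
  haveI towA₀ : IsScalarTower A (Localization.Away g₀) Bq :=
    IsScalarTower.of_algebraMap_eq (fun a => by
      rw [IsScalarTower.algebraMap_apply A B Bq, IsScalarTower.algebraMap_apply A B
        (Localization.Away g₀), ← IsScalarTower.algebraMap_apply B (Localization.Away g₀) Bq])
  haveI : IsLocalization.AtPrime Bq (q.map (algebraMap B (Localization.Away g₀))) :=
    isLocalization_atPrime_of_away q (Localization.Away g₀) g₀ hg₀ Bq
  have hcomapq : (q.map (algebraMap B (Localization.Away g₀))).comap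
      (algebraMap B (Localization.Away g₀)) = q := comap_map_away q _ g₀ hg₀
  have hp₀ : (q.map (algebraMap B (Localization.Away g₀))).comap
      (algebraMap A (Localization.Away g₀)) = q.comap (algebraMap A B) := by
    ext a
    rw [Ideal.mem_comap, Ideal.mem_comap, IsScalarTower.algebraMap_apply A B (Localization.Away g₀),
      ← Ideal.mem_comap, hcomapq]
  have hlist : (hs.map (algebraMap B (Localization.Away g₀))).map
      (algebraMap (Localization.Away g₀) Bq) = hs.map (algebraMap B Bq) := by
    rw [List.map_map]
    refine List.map_congr_left fun b _ => ?_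
    exact (IsScalarTower.algebraMap_apply B (Localization.Away g₀) Bq b).symm
  obtain ⟨g', hg', Bg', _, _, _, _, hAway', hgood'⟩ :=
    slice_list_flat H A hs.length (Localization.Away g₀)
      (q.map (algebraMap B (Localization.Away g₀))) Bq
      (hs.map (algebraMap B (Localization.Away g₀))) (List.length_map _)
      (by
        intro x hx
        obtain ⟨b, hb, rfl⟩ := List.mem_map.mp hx
        exact Ideal.mem_map_of_mem _ (hmem b hb))
      (by rw [hp₀, hlist]; exact hreg)
  letI algB : Algebra B Bg' :=
    ((algebraMap (Localization.Away g₀) Bg').comp (algebraMap B (Localization.Away g₀))).toAlgebra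
  haveI : IsScalarTower B (Localization.Away g₀) Bg' :=
    IsScalarTower.of_algebraMap_eq (fun _ => rfl)
  haveI : IsScalarTower A B Bg' := IsScalarTower.of_algebraMap_eq (fun a => by
    rw [IsScalarTower.algebraMap_apply A (Localization.Away g₀) Bg',
      IsScalarTower.algebraMap_apply A B (Localization.Away g₀)]
    rfl)
  obtain ⟨g, hg, hAway⟩ := exists_away_of_away_away q (Localization.Away g₀) g₀ hg₀ g' hg' Bg'
  refine ⟨g, hg, Bg', inferInstance, inferInstance, inferInstance, inferInstance, hAway, ?_⟩
  have hl2 : hs.map (algebraMap B Bg') = (hs.map (algebraMap B (Localization.Away g₀))).map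
      (algebraMap (Localization.Away g₀) Bg') := by
    rw [List.map_map]
    rfl
  rw [hl2]
  exact hgood'

end Groth.Agent.H47.CMSlice
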