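import Mathlib
import Groth.Agent.H47.CMSlice.Main
import Groth.Agent.H47.CMSlice.CMList
import Groth.Agent.H47.QF.Local

/-!
# Quasi-finite flat regular slices through a Cohen–Macaulay point closed in its fibre (helper47)
-/

set_option autoImplicit false
set_option linter.unusedSectionVars false
set_option linter.style.haveILetI false
universe u

namespace Groth.Agent.H47.CMSlice

open RingTheory.Sequence Groth.Agent.H49.FlatApprox

section primes

variable (A : Type u) [CommRing A] (B : Type u) [CommRing B] [Algebra A B]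
  (q : Ideal B) [q.IsPrime] (Bq : Type u) [CommRing Bq] [Algebra B Bq]
  [IsLocalization.AtPrime Bq q] [IsLocalRing Bq] [Algebra A Bq] [IsScalarTower A B Bq]
  (hs : List B)
  (g₀ : B) (R : Type u) [CommRing R] [Algebra B R] [IsLocalization.Away g₀ R]
  [Algebra A R] [IsScalarTower A B R]

include g₀ in
/-- primes of a chart `R = B_{g₀}` containing the slice ideal, lying over `p` and comparable with
`q R`, are equal to `q R`. -/
theorem eq_of_comparable (hg₀ : g₀ ∉ q)
    (hprime : ∀ P : Ideal Bq, P.IsPrime → (q.comap (algebraMap A B)).map (algebraMap A Bq) ≤ P →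
      (∀ h ∈ hs, algebraMap B Bq h ∈ P) → P = IsLocalRing.maximalIdeal Bq)
    (hcl : ∀ Q : Ideal B, Q.IsPrime → Q.comap (algebraMap A B) = q.comap (algebraMap A B) →
      q ≤ Q → Q = q)
    (Q : Ideal R) (hQ : Q.IsPrime) (hIQ : Ideal.ofList (hs.map (algebraMap B R)) ≤ Q)
    (hQp : Q.comap (algebraMap A R) = q.comap (algebraMap A B))
    (hcomp : q.map (algebraMap B R) ≤ Q ∨ Q ≤ q.map (algebraMap B R)) :
    Q = q.map (algebraMap B R) := by
  have hcomapq : (q.map (algebraMap B R)).comap (algebraMap B R) = q := comap_map_away q R g₀ hg₀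
  have hQB : (Q.comap (algebraMap B R)).IsPrime := Ideal.comap_isPrime _ _
  have hQBp : (Q.comap (algebraMap B R)).comap (algebraMap A B) = q.comap (algebraMap A B) := by
    rw [Ideal.comap_comap, ← IsScalarTower.algebraMap_eq]
    exact hQp
  have hmap : (Q.comap (algebraMap B R)).map (algebraMap B R) = Q :=
    IsLocalization.map_under (Submonoid.powers g₀) R Q
  suffices h : Q.comap (algebraMap B R) = q by rw [← hmap, h]
  rcases hcomp with hle | hle
  · refine hcl _ hQB hQBp ?_
    rw [← hcomapq]
    exact Ideal.comap_mono hle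
  · have hQBq : Q.comap (algebraMap B R) ≤ q := by
      rw [← hcomapq]
      exact Ideal.comap_mono hle
    have hdisj : Disjoint (q.primeCompl : Set B) (Q.comap (algebraMap B R) : Set B) := by
      rw [Set.disjoint_left]
      intro x hx hx'
      exact hx (hQBq hx')
    have hP : ((Q.comap (algebraMap B R)).map (algebraMap B Bq)).IsPrime :=
      IsLocalization.isPrime_of_isPrime_disjoint q.primeCompl Bq _ hQB hdisj
    have hJle : (q.comap (algebraMap A B)).map (algebraMap A Bq) ≤
        (Q.comap (algebraMap B R)).map (algebraMap B Bq) := by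
      rw [IsScalarTower.algebraMap_eq A B Bq, ← Ideal.map_map]
      refine Ideal.map_mono ?_
      rw [Ideal.map_le_iff_le_comap, hQBp]
    have hhs : ∀ h ∈ hs, algebraMap B Bq h ∈ (Q.comap (algebraMap B R)).map (algebraMap B Bq) := by
      intro h hh
      refine Ideal.mem_map_of_mem _ ?_
      rw [Ideal.mem_comap]
      exact hIQ (Ideal.subset_span (List.mem_map_of_mem hh))
    have hmax := hprime _ hP hJle hhs
    rw [← IsLocalization.under_map_of_isPrime_disjoint q.primeCompl Bq hQB hdisj]
    change ((Q.comap (algebraMap B R)).map (algebraMap B Bq)).comap (algebraMap B Bq) = q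
    rw [hmax]
    exact IsLocalization.AtPrime.under_maximalIdeal Bq q

end primes

/-- goodness passes to localizations. -/
theorem good_localization (A : Type u) [CommRing A] (R : Type u) [CommRing R] [Algebra A R]
    (M : Submonoid R) (R₂ : Type u) [CommRing R₂] [Algebra R R₂] [IsLocalization M R₂]
    [Algebra A R₂] [IsScalarTower A R R₂] (ts : List R) (h : Good A R ts) :
    Good A R₂ (ts.map (algebraMap R R₂)) := by
  refine ⟨h.1.of_isLocalization R₂ M, ?_⟩
  rw [← Ideal.map_ofList]
  haveI : Module.Flat A (R ⧸ Ideal.ofList ts) := h.2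
  haveI : Module.Flat (R ⧸ Ideal.ofList ts) (R₂ ⧸ (Ideal.ofList ts).map (algebraMap R R₂)) :=
    IsLocalization.flat _ (Algebra.algebraMapSubmonoid (R ⧸ Ideal.ofList ts) M)
  exact Module.Flat.trans A (R ⧸ Ideal.ofList ts) (R₂ ⧸ (Ideal.ofList ts).map (algebraMap R R₂))

/-- a prime of a finite type algebra `R ⧸ I` which is isolated among the primes of its fibre:
quasi-finiteness and uniqueness in the fibre after a principal localization of `R`. -/
theorem qf_step (A : Type u) [CommRing A] (R : Type u) [CommRing R] [Algebra A R]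
    [Algebra.FiniteType A R] (I : Ideal R) (qR : Ideal R) [qR.IsPrime] (hI : I ≤ qR)
    (p : Ideal A) [p.IsPrime] (hp : qR.comap (algebraMap A R) = p)
    (hcomp : ∀ Q : Ideal R, Q.IsPrime → I ≤ Q → Q.comap (algebraMap A R) = p →
      (qR ≤ Q ∨ Q ≤ qR) → Q = qR) :
    ∃ r : R, r ∉ qR ∧ ∀ (R₂ : Type u) [CommRing R₂] [Algebra R R₂] [IsLocalization.Away r R₂]
      [Algebra A R₂] [IsScalarTower A R R₂],
      Algebra.QuasiFinite A (R₂ ⧸ I.map (algebraMap R R₂)) ∧
      ∀ Q : Ideal R₂, Q.IsPrime → I.map (algebraMap R R₂) ≤ Q →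
        Q.comap (algebraMap A R₂) = p → Q.comap (algebraMap R R₂) = qR := by
  have hcm : ∀ Q : Ideal R, I ≤ Q →
      (Q.map (Ideal.Quotient.mk I)).comap (Ideal.Quotient.mk I) = Q := by
    intro Q hQ
    rw [Ideal.comap_map_of_surjective _ Ideal.Quotient.mk_surjective,
      ← RingHom.ker_eq_comap_bot, Ideal.mk_ker, sup_eq_left]
    exact hQ
  haveI hqC : (qR.map (Ideal.Quotient.mk I)).IsPrime :=
    Ideal.map_isPrime_of_surjective Ideal.Quotient.mk_surjective (by rwa [Ideal.mk_ker])
  have hAC : ∀ Q' : Ideal (R ⧸ I), Q'.comap (algebraMap A (R ⧸ I)) =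
      (Q'.comap (Ideal.Quotient.mk I)).comap (algebraMap A R) := by
    intro Q'
    rw [Ideal.comap_comap]
    rfl
  have hqCp : (qR.map (Ideal.Quotient.mk I)).comap (algebraMap A (R ⧸ I)) = p := by
    rw [hAC, hcm qR hI, hp]
  -- primes of the quotient comparable with `qC`
  have hkey : ∀ Q' : Ideal (R ⧸ I), Q'.IsPrime →
      Q'.comap (algebraMap A (R ⧸ I)) = p →
      (qR.map (Ideal.Quotient.mk I) ≤ Q' ∨ Q' ≤ qR.map (Ideal.Quotient.mk I)) →
      Q' = qR.map (Ideal.Quotient.mk I) := by
    intro Q' hQ' hQ'p hc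
    have hIQ : I ≤ Q'.comap (Ideal.Quotient.mk I) := by
      intro x hx
      rw [Ideal.mem_comap, Ideal.Quotient.eq_zero_iff_mem.mpr hx]
      exact Q'.zero_mem
    have h1 := hcomp (Q'.comap (Ideal.Quotient.mk I)) (Ideal.comap_isPrime _ _) hIQ
      (by rw [← hAC]; exact hQ'p) (by
        rcases hc with hc | hc
        · left
          rw [← hcm qR hI]
          exact Ideal.comap_mono hc
        · right
          rw [← hcm qR hI]
          exact Ideal.comap_mono hc)
    rw [← h1, Ideal.map_comap_of_surjective _ Ideal.Quotient.mk_surjective]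
  haveI : Algebra.QuasiFiniteAt A (qR.map (Ideal.Quotient.mk I)) :=
    Groth.Agent.H47.QF.quasiFiniteAt_of_isolated A (R ⧸ I) _
      (fun q' hq' hq'p hle => hkey q' hq' (hq'p.trans hqCp) (Or.inl hle))
      (fun q' hq' hq'p hle => hkey q' hq' (hq'p.trans hqCp) (Or.inr hle))
  obtain ⟨r₁, hr₁, hqf₁⟩ :=
    Groth.Agent.H47.QF.exists_quasiFinite_away A (R ⧸ I) (qR.map (Ideal.Quotient.mk I))
  haveI : (qR.map (Ideal.Quotient.mk I)).LiesOver p := ⟨hqCp.symm⟩
  obtain ⟨s, hs, hsep⟩ :=
    Ideal.exists_not_mem_forall_mem_of_ne_of_liesOver p (qR.map (Ideal.Quotient.mk I))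
  obtain ⟨r, hr⟩ := Ideal.Quotient.mk_surjective (r₁ * s)
  have hrq : r ∉ qR := by
    intro hrq
    have h1 : r₁ * s ∈ qR.map (Ideal.Quotient.mk I) := hr ▸ Ideal.mem_map_of_mem _ hrq
    rcases Ideal.IsPrime.mem_or_mem inferInstance h1 with h | h
    · exact hr₁ h
    · exact hs h
  refine ⟨r, hrq, ?_⟩
  intro R₂ _ _ _ _ _
  haveI h2 : IsLocalization.Away (r₁ * s) (R₂ ⧸ I.map (algebraMap R R₂)) := by
    have := isLocalization_away_quotient I R₂ r
    rwa [hr] at this
  refine ⟨?_, ?_⟩
  · let e : Localization.Away (algebraMap (R ⧸ I) (Localization.Away r₁) s) ≃ₐ[R ⧸ I]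
        (R₂ ⧸ I.map (algebraMap R R₂)) :=
      IsLocalization.algEquiv (Submonoid.powers (r₁ * s)) _ _
    exact (Algebra.QuasiFinite.iff_of_algEquiv (e.restrictScalars A)).mp inferInstance
  · intro Q hQ hIQ hQp
    have hIQ' : I ≤ Q.comap (algebraMap R R₂) := Ideal.map_le_iff_le_comap.mp hIQ
    have hQR : (Q.comap (algebraMap R R₂)).IsPrime := Ideal.comap_isPrime _ _
    have hQ' : ((Q.comap (algebraMap R R₂)).map (Ideal.Quotient.mk I)).IsPrime :=
      Ideal.map_isPrime_of_surjective Ideal.Quotient.mk_surjective (by rwa [Ideal.mk_ker])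
    have hQ'p : ((Q.comap (algebraMap R R₂)).map (Ideal.Quotient.mk I)).LiesOver p := ⟨by
      change p = Ideal.comap (algebraMap A (R ⧸ I)) _
      rw [hAC, hcm _ hIQ', Ideal.comap_comap, ← IsScalarTower.algebraMap_eq, hQp]⟩
    by_contra hne
    have hne' : (Q.comap (algebraMap R R₂)).map (Ideal.Quotient.mk I) ≠
        qR.map (Ideal.Quotient.mk I) := by
      intro h
      apply hne
      rw [← hcm _ hIQ', h, hcm qR hI]
    have h3 : s ∈ (Q.comap (algebraMap R R₂)).map (Ideal.Quotient.mk I) :=
      hsep _ hQ' hne' hQ'p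
    have h4 : Ideal.Quotient.mk I r ∈ (Q.comap (algebraMap R R₂)).map (Ideal.Quotient.mk I) := by
      rw [hr]; exact Ideal.mul_mem_left _ _ h3
    have h5 : r ∈ ((Q.comap (algebraMap R R₂)).map (Ideal.Quotient.mk I)).comap
        (Ideal.Quotient.mk I) := h4
    rw [hcm _ hIQ'] at h5
    have h6 : algebraMap R R₂ r ∈ Q := h5
    exact hQ.ne_top (Ideal.eq_top_of_isUnit_mem _ h6 (IsLocalization.Away.algebraMap_isUnit r))

/-- the conclusion of the slicing theorem for a chart `C` of `B`. -/
def SliceConcl (A : Type u) [CommRing A] (B : Type u) [CommRing B] [Algebra A B] (q : Ideal B)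
    (hs : List B) (C : Type u) [CommRing C] [Algebra B C] [Algebra A C] : Prop :=
  Good A C (hs.map (algebraMap B C)) ∧
    Algebra.QuasiFinite A (C ⧸ Ideal.ofList (hs.map (algebraMap B C))) ∧
    ∀ Q : Ideal C, Q.IsPrime → Ideal.ofList (hs.map (algebraMap B C)) ≤ Q →
      Q.comap (algebraMap A C) = q.comap (algebraMap A B) → Q.comap (algebraMap B C) = q

/-- the conclusion does not depend on the chosen localization. -/
theorem SliceConcl.of_algEquiv (A : Type u) [CommRing A] (B : Type u) [CommRing B] [Algebra A B]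
    (q : Ideal B) (hs : List B) (C : Type u) [CommRing C] [Algebra B C] [Algebra A C]
    [IsScalarTower A B C] (C' : Type u) [CommRing C'] [Algebra B C'] [Algebra A C']
    [IsScalarTower A B C'] (e : C ≃ₐ[B] C') (h : SliceConcl A B q hs C) :
    SliceConcl A B q hs C' := by
  obtain ⟨⟨hreg, hflat⟩, hqf, huniq⟩ := h
  have hlist : (hs.map (algebraMap B C)).map e = hs.map (algebraMap B C') := by
    rw [List.map_map]
    exact List.map_congr_left fun b _ => e.commutes b
  let eA : C ≃ₐ[A] C' := e.restrictScalars A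
  have hJ : Ideal.ofList (hs.map (algebraMap B C')) =
      Ideal.map (eA : C →+* C') (Ideal.ofList (hs.map (algebraMap B C))) := by
    rw [Ideal.map_ofList]
    exact congrArg Ideal.ofList hlist.symm
  let eq := Ideal.quotientEquivAlg _ _ eA hJ
  refine ⟨⟨?_, ?_⟩, ?_, ?_⟩
  · rw [← hlist]
    exact isWeaklyRegular_of_ringEquiv e.toRingEquiv _ hreg
  · exact Module.Flat.of_linearEquiv eq.symm.toLinearEquiv
  · exact (Algebra.QuasiFinite.iff_of_algEquiv eq).mp hqf
  · intro Q hQ hIQ hQp
    have hQ' : (Q.comap (e : C →+* C')).IsPrime := Ideal.comap_isPrime _ _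
    have h1 : Ideal.ofList (hs.map (algebraMap B C)) ≤ Q.comap (e : C →+* C') := by
      rw [← Ideal.map_le_iff_le_comap]
      have : Ideal.map (e : C →+* C') (Ideal.ofList (hs.map (algebraMap B C))) =
          Ideal.ofList (hs.map (algebraMap B C')) := hJ.symm
      rw [this]
      exact hIQ
    have h2 : (Q.comap (e : C →+* C')).comap (algebraMap A C) = q.comap (algebraMap A B) := by
      rw [← hQp]
      ext a
      simp only [Ideal.mem_comap]
      change eA (algebraMap A C a) ∈ Q ↔ _
      rw [eA.commutes]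
    have h3 := huniq _ hQ' h1 h2
    rw [← h3]
    ext b
    simp only [Ideal.mem_comap]
    change _ ↔ e (algebraMap B C b) ∈ Q
    rw [e.commutes]

/-- **Quasi-finite flat regular slices** (ring level; EGA IV 15.4-type statement): `B` finitely
presented over `A`, `q` a prime at which `B` is flat over `A`, whose fibre local ring is
Cohen–Macaulay and which is maximal among the primes of its fibre.  Then there are `g ∉ q` and a
list `hs` in `q` such that on any localization `B_g`: `hs` is a weakly regular sequence,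
`B_g ⧸ (hs)` is flat and quasi-finite over `A`, and `q` is its only prime over `q ∩ A`. -/
theorem slice_cm (H : Hyp4848.{u}) (A : Type u) [CommRing A]
    (B : Type u) [CommRing B] [Algebra A B] [Algebra.FinitePresentation A B]
    (q : Ideal B) [q.IsPrime] (Bq : Type u) [CommRing Bq] [Algebra B Bq]
    [IsLocalization.AtPrime Bq q] [Algebra A Bq] [IsScalarTower A B Bq]
    (hflat : Module.Flat A Bq)
    [hCM : LocCoh.IsCohenMacaulayLocalRing
      (Bq ⧸ (q.comap (algebraMap A B)).map (algebraMap A Bq))]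
    (hcl : ∀ Q : Ideal B, Q.IsPrime → Q.comap (algebraMap A B) = q.comap (algebraMap A B) →
      q ≤ Q → Q = q) :
    ∃ g : B, g ∉ q ∧ ∃ hs : List B, (∀ h ∈ hs, h ∈ q) ∧
      ∀ (Bg : Type u) [CommRing Bg] [Algebra B Bg] [IsLocalization.Away g Bg] [Algebra A Bg]
        [IsScalarTower A B Bg], SliceConcl A B q hs Bg := by
  haveI : IsLocalRing Bq := IsLocalization.AtPrime.isLocalRing Bq q
  obtain ⟨hs, hmem, hreg, hprime⟩ :=
    exists_list_of_cm B q Bq ((q.comap (algebraMap A B)).map (algebraMap A Bq))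
  obtain ⟨g₀, hg₀, R, _, _, _, _, hAway₀, hgood₀⟩ := slice_list H A B q Bq hflat hs hmem hreg
  haveI := hAway₀
  haveI : Algebra.FinitePresentation B R := IsLocalization.Away.finitePresentation g₀
  haveI : Algebra.FinitePresentation A R := Algebra.FinitePresentation.trans A B R
  haveI hqR : (q.map (algebraMap B R)).IsPrime := isPrime_map_away q R g₀ hg₀
  have hcomapq : (q.map (algebraMap B R)).comap (algebraMap B R) = q := comap_map_away q R g₀ hg₀
  have hIle : Ideal.ofList (hs.map (algebraMap B R)) ≤ q.map (algebraMap B R) := by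
    rw [Ideal.ofList, Ideal.span_le]
    intro x hx
    obtain ⟨b, hb, rfl⟩ := List.mem_map.mp hx
    exact Ideal.mem_map_of_mem _ (hmem b hb)
  have hpR : (q.map (algebraMap B R)).comap (algebraMap A R) = q.comap (algebraMap A B) := by
    rw [IsScalarTower.algebraMap_eq A B R, ← Ideal.comap_comap, hcomapq]
  obtain ⟨r, hr, hstep⟩ := qf_step A R (Ideal.ofList (hs.map (algebraMap B R)))
    (q.map (algebraMap B R)) hIle (q.comap (algebraMap A B)) hpR
    (fun Q hQ hIQ hQp hc => eq_of_comparable A B q Bq hs g₀ R hg₀ hprime hcl Q hQ hIQ hQp hc)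
  obtain ⟨g, hg, hAway⟩ := exists_away_of_away_away q R g₀ hg₀ r hr (Localization.Away r)
  refine ⟨g, hg, hs, hmem, ?_⟩
  intro Bg _ _ _ _ _
  haveI := hAway
  refine SliceConcl.of_algEquiv A B q hs (Localization.Away r) Bg
    (IsLocalization.algEquiv (Submonoid.powers g) _ _) ?_
  obtain ⟨hqf, huniq⟩ := hstep (Localization.Away r)
  have hlist : (hs.map (algebraMap B R)).map (algebraMap R (Localization.Away r)) =
      hs.map (algebraMap B (Localization.Away r)) := by
    rw [List.map_map]
    exact List.map_congr_left fun b _ =>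
      (IsScalarTower.algebraMap_apply B R (Localization.Away r) b).symm
  have hIdeal : (Ideal.ofList (hs.map (algebraMap B R))).map (algebraMap R (Localization.Away r)) =
      Ideal.ofList (hs.map (algebraMap B (Localization.Away r))) := by
    rw [Ideal.map_ofList, hlist]
  refine ⟨?_, ?_, ?_⟩
  · rw [← hlist]
    exact good_localization A R (Submonoid.powers r) (Localization.Away r) _ hgood₀
  · rw [← hIdeal]
    exact hqf
  · intro Q hQ hIQ hQp
    have h1 := huniq Q hQ (by rw [hIdeal]; exact hIQ) hQp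
    rw [IsScalarTower.algebraMap_eq B R (Localization.Away r), ← Ideal.comap_comap, h1, hcomapq]

end Groth.Agent.H47.CMSlice
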