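import Mathlib
import Groth.Agent.H47.CMSlice.QFin
import Groth.Agent.H49.SliceScheme
import Groth.Agent.H49.CMMor
import Groth.Prelude.Def_Mor2
import Groth.Prelude.Def_MoreMor

/-!
# Quasi-finite flat regular slices through a Cohen–Macaulay point: scheme level (helper47)
-/

open CategoryTheory AlgebraicGeometry TopologicalSpace
universe u
set_option autoImplicit false
set_option linter.style.haveILetI false
set_option linter.unusedSectionVars false

namespace Groth.Agent.H47.CMSlice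

open Groth.Agent.H49.FlatApprox Groth.Agent.H49.SliceScheme RingTheory.Sequence

variable {X S : Scheme.{u}} (f : X ⟶ S)

/-- a specialization of `x` inside the fibre through `x` is `x`, if `x` is closed in its fibre. -/
theorem eq_of_specializes_of_isClosed_asFiber (x x' : X)
    (hcl : IsClosed ({f.asFiber x} : Set ↑(f.fiber (f x)))) (hsp : x ⤳ x') (hfx : f x' = f x) :
    x' = x := by
  have hx' : x' ∈ Set.range (f.fiberι (f x)) := by rw [f.range_fiberι]; exact hfx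
  obtain ⟨y', hy'⟩ := hx'
  have h1 : f.asFiber x ⤳ y' := by
    rw [← (f.fiberι (f x)).isEmbedding.isInducing.specializes_iff, f.fiberι_asFiber, hy']
    exact hsp
  have h2 : y' = f.asFiber x := h1.mem_closed hcl rfl
  rw [← hy', h2, f.fiberι_asFiber]

variable {V : S.Opens} {U : X.Opens}

theorem apply_fromSpec (hV : IsAffineOpen V) (hU : IsAffineOpen U) (e : U ≤ f ⁻¹ᵁ V)
    (P : Spec Γ(X, U)) :
    f (hU.fromSpec P) = hV.fromSpec (Spec.map (f.appLE V U e) P) := by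
  have := IsAffineOpen.SpecMap_appLE_fromSpec f hV hU e
  rw [← Scheme.Hom.comp_apply, ← Scheme.Hom.comp_apply, this]

/-- ring-level form of "`x` is closed in its fibre". -/
theorem prime_eq_of_isClosed_asFiber (x : X) (hV : IsAffineOpen V) (hU : IsAffineOpen U)
    (e : U ≤ f ⁻¹ᵁ V) (hx : x ∈ U)
    (hcl : IsClosed ({f.asFiber x} : Set ↑(f.fiber (f x))))
    (Q : Ideal Γ(X, U)) (hQ : Q.IsPrime)
    (hQp : Q.comap (f.appLE V U e).hom =
      (hU.primeIdealOf ⟨x, hx⟩).asIdeal.comap (f.appLE V U e).hom)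
    (hle : (hU.primeIdealOf ⟨x, hx⟩).asIdeal ≤ Q) :
    Q = (hU.primeIdealOf ⟨x, hx⟩).asIdeal := by
  have hxeq : hU.fromSpec (hU.primeIdealOf ⟨x, hx⟩) = x := hU.fromSpec_primeIdealOf ⟨x, hx⟩
  have hsp : x ⤳ hU.fromSpec ⟨Q, hQ⟩ := by
    have h1 : hU.primeIdealOf ⟨x, hx⟩ ⤳ (⟨Q, hQ⟩ : PrimeSpectrum Γ(X, U)) :=
      (PrimeSpectrum.le_iff_specializes _ _).mp hle
    have h2 := h1.map hU.fromSpec.continuous
    rwa [hxeq] at h2
  have hfx : f (hU.fromSpec ⟨Q, hQ⟩) = f x := by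
    conv_rhs => rw [← hxeq]
    rw [apply_fromSpec f hV hU e, apply_fromSpec f hV hU e]
    congr 1
    exact PrimeSpectrum.ext hQp
  have h3 := eq_of_specializes_of_isClosed_asFiber f x _ hcl hsp hfx
  rw [← hxeq] at h3
  have h4 := hU.fromSpec.isOpenEmbedding.injective h3
  exact congrArg PrimeSpectrum.asIdeal h4

section chart

variable (hU : IsAffineOpen U) (rs : List Γ(X, U))

/-- the closed subscheme of the affine open `U` cut out by `rs`. -/
noncomputable def sliceHom : Spec (CommRingCat.of (Γ(X, U) ⧸ Ideal.ofList rs)) ⟶ (U : Scheme.{u}) :=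
  Spec.map (CommRingCat.ofHom (Ideal.Quotient.mk (Ideal.ofList rs))) ≫ hU.isoSpec.inv

theorem sliceHom_comp (hV : IsAffineOpen V) (e : U ≤ f ⁻¹ᵁ V) :
    sliceHom hU rs ≫ U.ι ≫ f =
      Spec.map (f.appLE V U e ≫ CommRingCat.ofHom (Ideal.Quotient.mk (Ideal.ofList rs))) ≫
        hV.fromSpec := by
  have hfac : hU.fromSpec ≫ f = Spec.map (f.appLE V U e) ≫ hV.fromSpec :=
    (IsAffineOpen.SpecMap_appLE_fromSpec f hV hU e).symm
  rw [sliceHom, Category.assoc, IsAffineOpen.isoSpec_inv_ι_assoc, hfac, Spec.map_comp,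
    Category.assoc]

theorem flat_sliceHom_comp (hV : IsAffineOpen V) (e : U ≤ f ⁻¹ᵁ V)
    (hfl : letI := (f.appLE V U e).hom.toAlgebra; Module.Flat Γ(S, V) (Γ(X, U) ⧸ Ideal.ofList rs)) :
    Flat (sliceHom hU rs ≫ U.ι ≫ f) := by
  rw [sliceHom_comp f hU rs hV e]
  haveI : Flat (Spec.map (f.appLE V U e ≫
      CommRingCat.ofHom (Ideal.Quotient.mk (Ideal.ofList rs)))) := by
    rw [HasRingHomProperty.Spec_iff (P := @Flat)]
    exact flat_comp_quotient_mk _ _ hfl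
  infer_instance

theorem lfp_sliceHom_comp [LocallyOfFinitePresentation f] (hV : IsAffineOpen V)
    (e : U ≤ f ⁻¹ᵁ V) :
    LocallyOfFinitePresentation (sliceHom hU rs ≫ U.ι ≫ f) := by
  rw [sliceHom_comp f hU rs hV e]
  haveI : LocallyOfFinitePresentation (Spec.map (f.appLE V U e ≫
      CommRingCat.ofHom (Ideal.Quotient.mk (Ideal.ofList rs)))) := by
    rw [HasRingHomProperty.Spec_iff (P := @LocallyOfFinitePresentation)]
    refine RingHom.FinitePresentation.comp ?_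
      (HasRingHomProperty.appLE (P := @LocallyOfFinitePresentation) f inferInstance ⟨V, hV⟩
        ⟨U, hU⟩ e)
    refine RingHom.FinitePresentation.of_surjective _ Ideal.Quotient.mk_surjective ?_
    change (RingHom.ker (Ideal.Quotient.mk (Ideal.ofList rs))).FG
    rw [Ideal.mk_ker]
    exact Submodule.fg_span (List.finite_toSet rs)
  infer_instance

theorem lqf_sliceHom_comp (hV : IsAffineOpen V) (e : U ≤ f ⁻¹ᵁ V)
    (hqf : letI := (f.appLE V U e).hom.toAlgebra;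
      Algebra.QuasiFinite Γ(S, V) (Γ(X, U) ⧸ Ideal.ofList rs)) :
    LocallyQuasiFinite (sliceHom hU rs ≫ U.ι ≫ f) := by
  rw [sliceHom_comp f hU rs hV e]
  haveI : LocallyQuasiFinite (Spec.map (f.appLE V U e ≫
      CommRingCat.ofHom (Ideal.Quotient.mk (Ideal.ofList rs)))) := by
    rw [HasRingHomProperty.Spec_iff (P := @LocallyQuasiFinite)]
    letI := (f.appLE V U e).hom.toAlgebra
    exact RingHom.quasiFinite_algebraMap.mpr hqf
  infer_instance

instance isClosedImmersion_sliceHom : IsClosedImmersion (sliceHom hU rs) := by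
  haveI : IsClosedImmersion (Spec.map (CommRingCat.ofHom
      (Ideal.Quotient.mk (Ideal.ofList rs)))) :=
    IsClosedImmersion.spec_of_surjective _ Ideal.Quotient.mk_surjective
  unfold sliceHom
  infer_instance

theorem sliceHom_appTop :
    (sliceHom hU rs).appTop = U.topIso.hom ≫
      CommRingCat.ofHom (Ideal.Quotient.mk (Ideal.ofList rs)) ≫
        (Scheme.ΓSpecIso (CommRingCat.of (Γ(X, U) ⧸ Ideal.ofList rs))).inv := by
  rw [sliceHom, Scheme.Hom.comp_appTop, IsAffineOpen.isoSpec_inv_appTop, Category.assoc,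
    Scheme.ΓSpecIso_inv_naturality]

theorem isWeaklyRegular_of_ringEquiv' {C C' : Type*} [CommRing C] [CommRing C'] (e : C ≃+* C')
    (rs : List C) (h : IsWeaklyRegular C rs) : IsWeaklyRegular C' (rs.map (e : C →+* C')) :=
  isWeaklyRegular_of_ringEquiv e rs h

theorem isRegularClosedImmersion_sliceHom (hreg : IsWeaklyRegular Γ(X, U) rs)
    (hne : Ideal.ofList rs ≠ ⊤) : Mor2.IsRegularClosedImmersion (sliceHom hU rs) := by
  haveI : IsAffine (U : Scheme.{u}) := hU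
  let δ : Γ((U : Scheme.{u}), ⊤) ≃+* Γ(X, U) := U.topIso.commRingCatIsoToRingEquiv
  have hδ : ∀ y : Γ((U : Scheme.{u}), ⊤), δ y = U.topIso.hom.hom y := fun _ => rfl
  have hofList : Ideal.ofList (rs.map (δ.symm : Γ(X, U) →+* Γ((U : Scheme.{u}), ⊤))) =
      (Ideal.ofList rs).map (δ.symm : Γ(X, U) →+* Γ((U : Scheme.{u}), ⊤)) :=
    (Ideal.map_ofList (δ.symm : Γ(X, U) →+* Γ((U : Scheme.{u}), ⊤)) rs).symm
  have hsurj : Function.Surjective (δ.symm : Γ(X, U) →+* Γ((U : Scheme.{u}), ⊤)) :=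
    δ.symm.surjective
  have hmem : ∀ y : Γ((U : Scheme.{u}), ⊤),
      y ∈ (Ideal.ofList rs).map (δ.symm : Γ(X, U) →+* Γ((U : Scheme.{u}), ⊤)) ↔
        δ y ∈ Ideal.ofList rs := by
    intro y
    rw [Ideal.mem_map_iff_of_surjective _ hsurj]
    constructor
    · rintro ⟨w, hw, rfl⟩
      have : δ (δ.symm w) = w := δ.apply_symm_apply w
      change δ (δ.symm w) ∈ _
      rwa [this]
    · intro h
      exact ⟨δ y, h, δ.symm_apply_apply y⟩
  refine ⟨inferInstance, fun z => ⟨⊤, isAffineOpen_top _, trivial,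
    rs.map (δ.symm : Γ(X, U) →+* Γ((U : Scheme.{u}), ⊤)), ⟨?_, ?_⟩, ?_⟩⟩
  · exact isWeaklyRegular_of_ringEquiv' δ.symm rs hreg
  · rw [smul_eq_mul, Ideal.mul_top, hofList]
    intro htop
    apply hne
    rw [Ideal.eq_top_iff_one]
    have h1 : (1 : Γ((U : Scheme.{u}), ⊤)) ∈
        (Ideal.ofList rs).map (δ.symm : Γ(X, U) →+* Γ((U : Scheme.{u}), ⊤)) := by
      rw [← htop]; trivial
    have h2 := (hmem 1).mp h1
    rwa [map_one] at h2
  · rw [Scheme.Hom.ker_apply]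
    change RingHom.ker (sliceHom hU rs).appTop.hom = _
    rw [sliceHom_appTop, hofList]
    ext y
    rw [RingHom.mem_ker, hmem, hδ]
    change (Scheme.ΓSpecIso (CommRingCat.of (Γ(X, U) ⧸ Ideal.ofList rs))).inv.hom
      (Ideal.Quotient.mk (Ideal.ofList rs) (U.topIso.hom.hom y)) = 0 ↔ _
    have hinj : Function.Injective
        (Scheme.ΓSpecIso (CommRingCat.of (Γ(X, U) ⧸ Ideal.ofList rs))).inv.hom :=
      (ConcreteCategory.bijective_of_isIso
        (Scheme.ΓSpecIso (CommRingCat.of (Γ(X, U) ⧸ Ideal.ofList rs))).inv).1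
    rw [map_eq_zero_iff _ hinj, Ideal.Quotient.eq_zero_iff_mem]

end chart

/-- the prime of `x` in an affine open restricts to the prime of `x` in a larger affine open. -/
theorem primeIdealOf_comap_res {U U₁ : X.Opens} (hU : IsAffineOpen U) (hU₁ : IsAffineOpen U₁)
    (hle : U₁ ≤ U) (x : X) (hx₁ : x ∈ U₁) :
    (hU₁.primeIdealOf ⟨x, hx₁⟩).asIdeal.comap (X.presheaf.map (homOfLE hle).op).hom =
      (hU.primeIdealOf ⟨x, hle hx₁⟩).asIdeal := by
  have h1 : hU.fromSpec (Spec.map (X.presheaf.map (homOfLE hle).op) (hU₁.primeIdealOf ⟨x, hx₁⟩)) =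
      hU.fromSpec (hU.primeIdealOf ⟨x, hle hx₁⟩) := by
    rw [← Scheme.Hom.comp_apply, hU.map_fromSpec hU₁, hU₁.fromSpec_primeIdealOf,
      hU.fromSpec_primeIdealOf]
  have h2 := hU.fromSpec.isOpenEmbedding.injective h1
  exact congrArg PrimeSpectrum.asIdeal h2

/-- **S1349**, modulo S4848. -/
theorem main (H : Hyp4848.{u}) [LocallyOfFinitePresentation f] (x : X)
    (hcm : MoreMor.IsCMAt f x) (hcl : IsClosed ({f.asFiber x} : Set ↑(f.fiber (f x)))) :
    ∃ (V : X.Opens) (Z : Scheme.{u}) (i : Z ⟶ (V : Scheme.{u})),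
      Mor2.IsRegularClosedImmersion i ∧ x ∈ Set.range ⇑(i ≫ V.ι) ∧
      Flat (i ≫ V.ι ≫ f) ∧ LocallyOfFinitePresentation (i ≫ V.ι ≫ f) ∧
      LocallyQuasiFinite (i ≫ V.ι ≫ f) ∧ ∀ z : Z, f (V.ι (i z)) = f x → V.ι (i z) = x := by
  obtain ⟨hflat, hCM⟩ := (Groth.Agent.H49.CMMor.isCMAt_iff f x).mp hcm
  obtain ⟨V, hV, hfxV, -⟩ := Opens.isBasis_iff_nbhd.mp S.isBasis_affineOpens
    (show f x ∈ (⊤ : S.Opens) from trivial)
  obtain ⟨U₀, hU₀, hxU₀, e₀⟩ := Opens.isBasis_iff_nbhd.mp X.isBasis_affineOpens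
    (show x ∈ f ⁻¹ᵁ V from hfxV)
  letI algAB : Algebra Γ(S, V) Γ(X, U₀) := (f.appLE V U₀ e₀).hom.toAlgebra
  have hfpU : (f.appLE V U₀ e₀).hom.FinitePresentation :=
    HasRingHomProperty.appLE (P := @LocallyOfFinitePresentation) f inferInstance ⟨V, hV⟩
      ⟨U₀, hU₀⟩ e₀
  haveI : Algebra.FinitePresentation Γ(S, V) Γ(X, U₀) := hfpU
  letI := TopCat.Presheaf.algebra_section_stalk X.presheaf ⟨x, hxU₀⟩
  haveI := hU₀.isLocalization_stalk ⟨x, hxU₀⟩
  letI algAq : Algebra Γ(S, V) (X.presheaf.stalk x) :=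
    ((X.presheaf.germ U₀ x hxU₀).hom.comp (f.appLE V U₀ e₀).hom).toAlgebra
  haveI : IsScalarTower Γ(S, V) Γ(X, U₀) (X.presheaf.stalk x) :=
    IsScalarTower.of_algebraMap_eq (fun _ => rfl)
  have hflat' : Module.Flat Γ(S, V) (X.presheaf.stalk x) :=
    flat_stalk_of_flat_stalkMap f x hV e₀ hxU₀ hflat
  -- the Cohen–Macaulay fibre ring in chart form
  have hEq : Groth.Agent.H49.FibreStalk.fibreIdeal f x =
      ((hU₀.primeIdealOf ⟨x, hxU₀⟩).asIdeal.comap (algebraMap Γ(S, V) Γ(X, U₀))).map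
        (algebraMap Γ(S, V) (X.presheaf.stalk x)) := by
    have h1 := fibreIdeal_eq f x hV hU₀ e₀ hxU₀
    rw [Ideal.map_map] at h1
    exact h1
  haveI hCM' : LocCoh.IsCohenMacaulayLocalRing (X.presheaf.stalk x ⧸
      ((hU₀.primeIdealOf ⟨x, hxU₀⟩).asIdeal.comap (algebraMap Γ(S, V) Γ(X, U₀))).map
        (algebraMap Γ(S, V) (X.presheaf.stalk x))) := hEq ▸ hCM
  have hcl' : ∀ Q : Ideal Γ(X, U₀), Q.IsPrime →
      Q.comap (algebraMap Γ(S, V) Γ(X, U₀)) =
        (hU₀.primeIdealOf ⟨x, hxU₀⟩).asIdeal.comap (algebraMap Γ(S, V) Γ(X, U₀)) →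
      (hU₀.primeIdealOf ⟨x, hxU₀⟩).asIdeal ≤ Q → Q = (hU₀.primeIdealOf ⟨x, hxU₀⟩).asIdeal :=
    fun Q hQ hQp hle => prime_eq_of_isClosed_asFiber f x hV hU₀ e₀ hxU₀ hcl Q hQ hQp hle
  obtain ⟨g, hg, hs, hmem, hconcl⟩ := slice_cm H Γ(S, V) Γ(X, U₀)
    (hU₀.primeIdealOf ⟨x, hxU₀⟩).asIdeal (X.presheaf.stalk x) hflat' hcl'
  -- the chart `D(g)`
  have hle : X.basicOpen g ≤ U₀ := X.basicOpen_le g
  have hU₁ : IsAffineOpen (X.basicOpen g) := hU₀.basicOpen g
  have hx₁ : x ∈ X.basicOpen g := by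
    rw [X.mem_basicOpen g x hxU₀]
    exact (IsLocalization.AtPrime.isUnit_to_map_iff (X.presheaf.stalk x)
      (hU₀.primeIdealOf ⟨x, hxU₀⟩).asIdeal g).mpr hg
  have e₁ : X.basicOpen g ≤ f ⁻¹ᵁ V := hle.trans e₀
  letI algABg : Algebra Γ(S, V) Γ(X, X.basicOpen g) := (f.appLE V (X.basicOpen g) e₁).hom.toAlgebra
  haveI : IsScalarTower Γ(S, V) Γ(X, U₀) Γ(X, X.basicOpen g) :=
    IsScalarTower.of_algebraMap_eq (fun a => by
      change (f.appLE V (X.basicOpen g) e₁).hom a =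
        (X.presheaf.map (homOfLE hle).op).hom ((f.appLE V U₀ e₀).hom a)
      rw [← Scheme.Hom.appLE_map f e₀ (homOfLE hle).op]
      rfl)
  haveI := hU₀.isLocalization_basicOpen g
  obtain ⟨⟨hreg, hfl⟩, hqf, huniq⟩ := hconcl Γ(X, X.basicOpen g)
  -- the prime of `x` in the chart `D(g)`
  have hQx : (hU₁.primeIdealOf ⟨x, hx₁⟩).asIdeal.comap
      (algebraMap Γ(X, U₀) Γ(X, X.basicOpen g)) = (hU₀.primeIdealOf ⟨x, hxU₀⟩).asIdeal :=
    primeIdealOf_comap_res hU₀ hU₁ hle x hx₁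
  have hIle : Ideal.ofList (hs.map (algebraMap Γ(X, U₀) Γ(X, X.basicOpen g))) ≤
      (hU₁.primeIdealOf ⟨x, hx₁⟩).asIdeal := by
    rw [Ideal.ofList, Ideal.span_le]
    intro r hr
    obtain ⟨h, hh, rfl⟩ := List.mem_map.mp hr
    have h1 : h ∈ (hU₁.primeIdealOf ⟨x, hx₁⟩).asIdeal.comap
        (algebraMap Γ(X, U₀) Γ(X, X.basicOpen g)) := by rw [hQx]; exact hmem h hh
    exact h1
  have hne : Ideal.ofList (hs.map (algebraMap Γ(X, U₀) Γ(X, X.basicOpen g))) ≠ ⊤ := by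
    intro htop
    exact (hU₁.primeIdealOf ⟨x, hx₁⟩).isPrime.ne_top (top_le_iff.mp (htop ▸ hIle))
  have hι : sliceHom hU₁ (hs.map (algebraMap Γ(X, U₀) Γ(X, X.basicOpen g))) ≫
      (X.basicOpen g).ι = Spec.map (CommRingCat.ofHom (Ideal.Quotient.mk
        (Ideal.ofList (hs.map (algebraMap Γ(X, U₀) Γ(X, X.basicOpen g)))))) ≫ hU₁.fromSpec := by
    rw [sliceHom, Category.assoc, IsAffineOpen.isoSpec_inv_ι]
  have hcm : ∀ Q : Ideal Γ(X, X.basicOpen g),
      Ideal.ofList (hs.map (algebraMap Γ(X, U₀) Γ(X, X.basicOpen g))) ≤ Q →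
      (Q.map (Ideal.Quotient.mk (Ideal.ofList (hs.map
        (algebraMap Γ(X, U₀) Γ(X, X.basicOpen g)))))).comap (Ideal.Quotient.mk _) = Q := by
    intro Q hQ
    rw [Ideal.comap_map_of_surjective _ Ideal.Quotient.mk_surjective,
      ← RingHom.ker_eq_comap_bot, Ideal.mk_ker, sup_eq_left]
    exact hQ
  refine ⟨X.basicOpen g, _, sliceHom hU₁ (hs.map (algebraMap Γ(X, U₀) Γ(X, X.basicOpen g))),
    isRegularClosedImmersion_sliceHom hU₁ _ hreg hne, ?_,
    flat_sliceHom_comp f hU₁ _ hV e₁ hfl, lfp_sliceHom_comp f hU₁ _ hV e₁,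
    lqf_sliceHom_comp f hU₁ _ hV e₁ hqf, ?_⟩
  · -- `x` is in the image
    haveI hP : ((hU₁.primeIdealOf ⟨x, hx₁⟩).asIdeal.map (Ideal.Quotient.mk (Ideal.ofList
        (hs.map (algebraMap Γ(X, U₀) Γ(X, X.basicOpen g)))))).IsPrime :=
      Ideal.map_isPrime_of_surjective Ideal.Quotient.mk_surjective (by rwa [Ideal.mk_ker])
    refine ⟨⟨_, hP⟩, ?_⟩
    rw [hι, Scheme.Hom.comp_apply]
    have h2 : Spec.map (CommRingCat.ofHom (Ideal.Quotient.mk (Ideal.ofList
        (hs.map (algebraMap Γ(X, U₀) Γ(X, X.basicOpen g)))))) ⟨_, hP⟩ =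
        hU₁.primeIdealOf ⟨x, hx₁⟩ := PrimeSpectrum.ext (hcm _ hIle)
    rw [h2, hU₁.fromSpec_primeIdealOf]
  · -- uniqueness in the fibre
    intro z hz
    have hz' : (sliceHom hU₁ (hs.map (algebraMap Γ(X, U₀) Γ(X, X.basicOpen g))) ≫
        (X.basicOpen g).ι) z = hU₁.fromSpec (Spec.map (CommRingCat.ofHom (Ideal.Quotient.mk
        (Ideal.ofList (hs.map (algebraMap Γ(X, U₀) Γ(X, X.basicOpen g)))))) z) := by
      rw [hι, Scheme.Hom.comp_apply]
    rw [Scheme.Hom.comp_apply] at hz'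
    rw [hz'] at hz ⊢
    set P := Spec.map (CommRingCat.ofHom (Ideal.Quotient.mk
        (Ideal.ofList (hs.map (algebraMap Γ(X, U₀) Γ(X, X.basicOpen g)))))) z with hPdef
    have hIP : Ideal.ofList (hs.map (algebraMap Γ(X, U₀) Γ(X, X.basicOpen g))) ≤ P.asIdeal := by
      intro r hr
      change Ideal.Quotient.mk _ r ∈ z.asIdeal
      rw [Ideal.Quotient.eq_zero_iff_mem.mpr hr]
      exact z.asIdeal.zero_mem
    have hxeq : hU₁.fromSpec (hU₁.primeIdealOf ⟨x, hx₁⟩) = x := hU₁.fromSpec_primeIdealOf ⟨x, hx₁⟩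
    have h3 : Spec.map (f.appLE V (X.basicOpen g) e₁) P =
        Spec.map (f.appLE V (X.basicOpen g) e₁) (hU₁.primeIdealOf ⟨x, hx₁⟩) := by
      apply hV.fromSpec.isOpenEmbedding.injective
      rw [← apply_fromSpec f hV hU₁ e₁, ← apply_fromSpec f hV hU₁ e₁, hz, hxeq]
    have h4 : P.asIdeal.comap (algebraMap Γ(S, V) Γ(X, X.basicOpen g)) =
        (hU₀.primeIdealOf ⟨x, hxU₀⟩).asIdeal.comap (algebraMap Γ(S, V) Γ(X, U₀)) := by
      have h5 := congrArg PrimeSpectrum.asIdeal h3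
      change P.asIdeal.comap (algebraMap Γ(S, V) Γ(X, X.basicOpen g)) =
        (hU₁.primeIdealOf ⟨x, hx₁⟩).asIdeal.comap (algebraMap Γ(S, V) Γ(X, X.basicOpen g)) at h5
      rw [h5, IsScalarTower.algebraMap_eq Γ(S, V) Γ(X, U₀) Γ(X, X.basicOpen g),
        ← Ideal.comap_comap, hQx]
    have h6 := huniq P.asIdeal P.isPrime hIP h4
    have h7 : Spec.map (X.presheaf.map (homOfLE hle).op) P = hU₀.primeIdealOf ⟨x, hxU₀⟩ :=
      PrimeSpectrum.ext h6
    rw [← hU₀.map_fromSpec hU₁ (homOfLE hle).op, Scheme.Hom.comp_apply, h7,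
      hU₀.fromSpec_primeIdealOf]

end Groth.Agent.H47.CMSlice
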