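import Mathlib
import Groth.Agent.H47.CMSlice.Scheme
import Groth.Agent.H49.CMLocusOpen
import Groth.Agent.H49.CMChart
import Groth.Agent.H72.FlatCM

/-!
# Flat regular slices through a Cohen–Macaulay point which need not be closed in its fibre
(helper47)
-/

open CategoryTheory AlgebraicGeometry TopologicalSpace
universe u
set_option autoImplicit false
set_option linter.style.haveILetI false
set_option linter.unusedSectionVars false

namespace Groth.Agent.H47.CMSlice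

open Groth.Agent.H49.FlatApprox Groth.Agent.H49.SliceScheme RingTheory.Sequence

section ring

/-- goodness does not depend on the chosen model of a localization. -/
theorem good_of_algEquiv (A : Type u) [CommRing A] (B : Type u) [CommRing B] [Algebra A B]
    (hs : List B) (C : Type u) [CommRing C] [Algebra B C] [Algebra A C]
    [IsScalarTower A B C] (C' : Type u) [CommRing C'] [Algebra B C'] [Algebra A C']
    [IsScalarTower A B C'] (e : C ≃ₐ[B] C') (h : Good A C (hs.map (algebraMap B C))) :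
    Good A C' (hs.map (algebraMap B C')) := by
  obtain ⟨hreg, hflat⟩ := h
  have hlist : (hs.map (algebraMap B C)).map e = hs.map (algebraMap B C') := by
    rw [List.map_map]
    exact List.map_congr_left fun b _ => e.commutes b
  let eA : C ≃ₐ[A] C' := e.restrictScalars A
  have hJ : Ideal.ofList (hs.map (algebraMap B C')) =
      Ideal.map (eA : C →+* C') (Ideal.ofList (hs.map (algebraMap B C))) := by
    rw [Ideal.map_ofList]
    exact congrArg Ideal.ofList hlist.symm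
  let eq := Ideal.quotientEquivAlg _ _ eA hJ
  refine ⟨?_, ?_⟩
  · rw [← hlist]
    exact isWeaklyRegular_of_ringEquiv e.toRingEquiv _ hreg
  · exact Module.Flat.of_linearEquiv eq.symm.toLinearEquiv

/-- **Flat regular slices** (ring level): `B` finitely presented over `A`, `q` a prime at which
`B` is flat over `A` and whose fibre local ring is Cohen–Macaulay.  Then there are `g ∉ q` and a
list `hs` in `q` such that the only prime of `B_q` containing `p B_q` and `hs` is the maximal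
ideal, and on any localization `B_g` the list `hs` is a weakly regular sequence with
`B_g ⧸ (hs)` flat over `A`. -/
theorem slice_cm_gen (H : Hyp4848.{u}) (A : Type u) [CommRing A]
    (B : Type u) [CommRing B] [Algebra A B] [Algebra.FinitePresentation A B]
    (q : Ideal B) [q.IsPrime] (Bq : Type u) [CommRing Bq] [Algebra B Bq]
    [IsLocalization.AtPrime Bq q] [IsLocalRing Bq] [Algebra A Bq] [IsScalarTower A B Bq]
    (hflat : Module.Flat A Bq)
    [hCM : LocCoh.IsCohenMacaulayLocalRing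
      (Bq ⧸ (q.comap (algebraMap A B)).map (algebraMap A Bq))] :
    ∃ g : B, g ∉ q ∧ ∃ hs : List B, (∀ h ∈ hs, h ∈ q) ∧
      (∀ P : Ideal Bq, P.IsPrime → (q.comap (algebraMap A B)).map (algebraMap A Bq) ≤ P →
        (∀ h ∈ hs, algebraMap B Bq h ∈ P) → P = IsLocalRing.maximalIdeal Bq) ∧
      ∀ (Bg : Type u) [CommRing Bg] [Algebra B Bg] [IsLocalization.Away g Bg] [Algebra A Bg]
        [IsScalarTower A B Bg], Good A Bg (hs.map (algebraMap B Bg)) := by
  obtain ⟨hs, hmem, hreg, hprime⟩ :=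
    exists_list_of_cm B q Bq ((q.comap (algebraMap A B)).map (algebraMap A Bq))
  obtain ⟨g₀, hg₀, R, _, _, _, _, hAway₀, hgood₀⟩ := slice_list H A B q Bq hflat hs hmem hreg
  haveI := hAway₀
  refine ⟨g₀, hg₀, hs, hmem, hprime, fun Bg _ _ _ _ _ => ?_⟩
  exact good_of_algEquiv A B hs R Bg (IsLocalization.algEquiv (Submonoid.powers g₀) _ _) hgood₀

/-- localization away from an element commutes with quotients (general form) -/
theorem isLocalization_away_quotient' {R S : Type*} [CommRing R] [CommRing S] [Algebra R S]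
    (I : Ideal R) (I' : Ideal S) (hI : I' = I.map (algebraMap R S))
    (hle : I ≤ I'.comap (algebraMap R S)) (c : R) [IsLocalization.Away c S] :
    letI := (Ideal.quotientMap I' (algebraMap R S) hle).toAlgebra
    IsLocalization.Away (Ideal.Quotient.mk I c) (S ⧸ I') := by
  subst hI
  convert isLocalization_away_quotient I S c using 1
  exact Algebra.algebra_ext _ _ (fun r => by
    obtain ⟨r, rfl⟩ := Ideal.Quotient.mk_surjective r
    rfl)

end ring

section scheme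

variable {X S : Scheme.{u}} (f : X ⟶ S)

/-- a point without proper generizations has a zero-dimensional local ring -/
theorem ringKrullDim_stalk_eq_zero_of_forall_specializes (F : Scheme.{u}) (t : F)
    (h : ∀ t' : F, t' ⤳ t → t' = t) : ringKrullDim (F.presheaf.stalk t) = 0 := by
  rw [ringKrullDim_stalk_eq_coheight]
  have : Order.coheight t = 0 := by
    rw [Order.coheight_eq_zero]
    intro w hw
    rw [Scheme.le_iff_specializes] at hw ⊢
    rw [h w hw]
  rw [this]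
  rfl

/-- a point without proper generizations in its fibre has a zero-dimensional fibre local ring -/
theorem ringKrullDim_fiberStalk_eq_zero {Y : Scheme.{u}} (h : Y ⟶ S) (y : Y)
    (hgen : ∀ y' : Y, y' ⤳ y → h y' = h y → y' = y) :
    ringKrullDim (CInt.fiberStalk h y) = 0 := by
  apply ringKrullDim_stalk_eq_zero_of_forall_specializes
  intro t' ht'
  have h1 : h.fiberι (h y) t' ⤳ y := by
    have := ht'.map (h.fiberι (h y)).continuous
    rwa [h.fiberι_asFiber] at this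
  have h2 : h (h.fiberι (h y) t') = h y := by
    have : h.fiberι (h y) t' ∈ Set.range (h.fiberι (h y)) := Set.mem_range_self t'
    rwa [h.range_fiberι] at this
  have h3 := hgen _ h1 h2
  apply (h.fiberι (h y)).isEmbedding.injective
  rw [h3, h.fiberι_asFiber]

variable {V : S.Opens} {U : X.Opens}

/-- a generization of `x` in the fibre through `x`, lying in `V(rs)`, is `x`, if the fibre local
ring of `V(rs)` at `x` is zero-dimensional. -/
theorem eq_of_specializes_of_mem (hV : IsAffineOpen V) (hU : IsAffineOpen U) (e : U ≤ f ⁻¹ᵁ V)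
    (x : X) (hx : x ∈ U) (rs : List Γ(X, U))
    (hprime : ∀ P : Ideal (X.presheaf.stalk x), P.IsPrime →
      Groth.Agent.H49.FibreStalk.fibreIdeal f x ≤ P →
      (∀ r ∈ rs, (X.presheaf.germ U x hx).hom r ∈ P) → P = IsLocalRing.maximalIdeal _)
    (x' : X) (hx' : x' ∈ U) (hsp : x' ⤳ x) (hfx : f x' = f x)
    (hmem : ∀ r ∈ rs, r ∈ (hU.primeIdealOf ⟨x', hx'⟩).asIdeal) : x' = x := by
  letI := TopCat.Presheaf.algebra_section_stalk X.presheaf ⟨x, hx⟩
  haveI := hU.isLocalization_stalk ⟨x, hx⟩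
  have hxeq : hU.fromSpec (hU.primeIdealOf ⟨x, hx⟩) = x := hU.fromSpec_primeIdealOf ⟨x, hx⟩
  have hx'eq : hU.fromSpec (hU.primeIdealOf ⟨x', hx'⟩) = x' := hU.fromSpec_primeIdealOf ⟨x', hx'⟩
  have h1 : @Specializes (↥(Spec Γ(X, U))) _ (hU.primeIdealOf ⟨x', hx'⟩)
      (hU.primeIdealOf ⟨x, hx⟩) := by
    rw [← hU.fromSpec.isOpenEmbedding.isInducing.specializes_iff, hxeq, hx'eq]
    exact hsp
  have hle : (hU.primeIdealOf ⟨x', hx'⟩).asIdeal ≤ (hU.primeIdealOf ⟨x, hx⟩).asIdeal :=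
    (PrimeSpectrum.le_iff_specializes _ _).mpr h1
  have hcomap : (hU.primeIdealOf ⟨x', hx'⟩).asIdeal.comap (f.appLE V U e).hom =
      (hU.primeIdealOf ⟨x, hx⟩).asIdeal.comap (f.appLE V U e).hom := by
    have h3 : Spec.map (f.appLE V U e) (hU.primeIdealOf ⟨x', hx'⟩) =
        Spec.map (f.appLE V U e) (hU.primeIdealOf ⟨x, hx⟩) := by
      apply hV.fromSpec.isOpenEmbedding.injective
      rw [← apply_fromSpec f hV hU e, ← apply_fromSpec f hV hU e, hxeq, hx'eq, hfx]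
    exact congrArg PrimeSpectrum.asIdeal h3
  have hQ' : (hU.primeIdealOf ⟨x', hx'⟩).asIdeal.IsPrime := (hU.primeIdealOf ⟨x', hx'⟩).isPrime
  have hdisj : Disjoint ((hU.primeIdealOf ⟨x, hx⟩).asIdeal.primeCompl : Set Γ(X, U))
      ((hU.primeIdealOf ⟨x', hx'⟩).asIdeal : Set Γ(X, U)) := by
    rw [Set.disjoint_left]
    intro a ha ha'
    exact ha (hle ha')
  have hP : ((hU.primeIdealOf ⟨x', hx'⟩).asIdeal.map
      (algebraMap Γ(X, U) (X.presheaf.stalk x))).IsPrime :=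
    IsLocalization.isPrime_of_isPrime_disjoint (hU.primeIdealOf ⟨x, hx⟩).asIdeal.primeCompl
      (X.presheaf.stalk x) _ hQ' hdisj
  have hJle : Groth.Agent.H49.FibreStalk.fibreIdeal f x ≤
      (hU.primeIdealOf ⟨x', hx'⟩).asIdeal.map (algebraMap Γ(X, U) (X.presheaf.stalk x)) := by
    have h1 := fibreIdeal_eq f x hV hU e hx
    change Groth.Agent.H49.FibreStalk.fibreIdeal f x = _ at h1
    rw [h1]
    refine Ideal.map_mono ?_
    rw [Ideal.map_le_iff_le_comap, ← hcomap]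
  have hhs : ∀ r ∈ rs, (X.presheaf.germ U x hx).hom r ∈
      (hU.primeIdealOf ⟨x', hx'⟩).asIdeal.map (algebraMap Γ(X, U) (X.presheaf.stalk x)) :=
    fun r hr => Ideal.mem_map_of_mem _ (hmem r hr)
  have hmax := hprime _ hP hJle hhs
  have hQq : (hU.primeIdealOf ⟨x', hx'⟩).asIdeal = (hU.primeIdealOf ⟨x, hx⟩).asIdeal := by
    rw [← IsLocalization.under_map_of_isPrime_disjoint
      (hU.primeIdealOf ⟨x, hx⟩).asIdeal.primeCompl (X.presheaf.stalk x) hQ' hdisj]
    change ((hU.primeIdealOf ⟨x', hx'⟩).asIdeal.map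
      (algebraMap Γ(X, U) (X.presheaf.stalk x))).comap
        (algebraMap Γ(X, U) (X.presheaf.stalk x)) = _
    rw [hmax]
    exact IsLocalization.AtPrime.under_maximalIdeal (X.presheaf.stalk x)
      (hU.primeIdealOf ⟨x, hx⟩).asIdeal
  rw [← hxeq, ← hx'eq]
  congr 1
  exact PrimeSpectrum.ext hQq

section chart

variable (hU : IsAffineOpen U) (rs : List Γ(X, U))

theorem sliceHom_ι : sliceHom hU rs ≫ U.ι =
    Spec.map (CommRingCat.ofHom (Ideal.Quotient.mk (Ideal.ofList rs))) ≫ hU.fromSpec := by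
  rw [sliceHom, Category.assoc, IsAffineOpen.isoSpec_inv_ι]

/-- the points of the slice lie in `V(rs)` -/
theorem sliceHom_apply_mem (y' : Spec (CommRingCat.of (Γ(X, U) ⧸ Ideal.ofList rs))) :
    ∃ hx' : (sliceHom hU rs ≫ U.ι) y' ∈ U, ∀ r ∈ rs,
      r ∈ (hU.primeIdealOf ⟨(sliceHom hU rs ≫ U.ι) y', hx'⟩).asIdeal := by
  have hx'eq : (sliceHom hU rs ≫ U.ι) y' = hU.fromSpec
      (Spec.map (CommRingCat.ofHom (Ideal.Quotient.mk (Ideal.ofList rs))) y') := by
    rw [sliceHom_ι, Scheme.Hom.comp_apply]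
  have hIP : Ideal.ofList rs ≤
      (Spec.map (CommRingCat.ofHom (Ideal.Quotient.mk (Ideal.ofList rs))) y').asIdeal := by
    intro r hr
    change Ideal.Quotient.mk _ r ∈ y'.asIdeal
    rw [Ideal.Quotient.eq_zero_iff_mem.mpr hr]
    exact y'.asIdeal.zero_mem
  have hmemU : hU.fromSpec
      (Spec.map (CommRingCat.ofHom (Ideal.Quotient.mk (Ideal.ofList rs))) y') ∈ U := by
    have := Set.mem_range_self (f := hU.fromSpec)
      (Spec.map (CommRingCat.ofHom (Ideal.Quotient.mk (Ideal.ofList rs))) y')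
    rwa [hU.range_fromSpec] at this
  have hx'U : (sliceHom hU rs ≫ U.ι) y' ∈ U := by rw [hx'eq]; exact hmemU
  refine ⟨hx'U, fun r hr => ?_⟩
  have h1 : hU.primeIdealOf ⟨(sliceHom hU rs ≫ U.ι) y', hx'U⟩ =
      Spec.map (CommRingCat.ofHom (Ideal.Quotient.mk (Ideal.ofList rs))) y' := by
    apply hU.fromSpec.isOpenEmbedding.injective
    rw [hU.fromSpec_primeIdealOf]
    exact hx'eq
  rw [h1]
  exact hIP (Ideal.subset_span hr)

/-- the point of the slice over `x` -/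
theorem exists_sliceHom_apply_eq (x : X) (hx : x ∈ U)
    (hrsq : ∀ r ∈ rs, r ∈ (hU.primeIdealOf ⟨x, hx⟩).asIdeal) :
    ∃ y : Spec (CommRingCat.of (Γ(X, U) ⧸ Ideal.ofList rs)), (sliceHom hU rs ≫ U.ι) y = x ∧
      ∀ c : Γ(X, U), Ideal.Quotient.mk (Ideal.ofList rs) c ∈ y.asIdeal ↔
        c ∈ (hU.primeIdealOf ⟨x, hx⟩).asIdeal := by
  have hIle : Ideal.ofList rs ≤ (hU.primeIdealOf ⟨x, hx⟩).asIdeal := by
    rw [Ideal.ofList, Ideal.span_le]
    exact fun r hr => hrsq r hr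
  have hcm : ((hU.primeIdealOf ⟨x, hx⟩).asIdeal.map (Ideal.Quotient.mk (Ideal.ofList rs))).comap
      (Ideal.Quotient.mk _) = (hU.primeIdealOf ⟨x, hx⟩).asIdeal := by
    rw [Ideal.comap_map_of_surjective _ Ideal.Quotient.mk_surjective,
      ← RingHom.ker_eq_comap_bot, Ideal.mk_ker, sup_eq_left]
    exact hIle
  haveI hP : ((hU.primeIdealOf ⟨x, hx⟩).asIdeal.map
      (Ideal.Quotient.mk (Ideal.ofList rs))).IsPrime :=
    Ideal.map_isPrime_of_surjective Ideal.Quotient.mk_surjective (by rwa [Ideal.mk_ker])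
  refine ⟨⟨_, hP⟩, ?_, fun c => ?_⟩
  · rw [sliceHom_ι, Scheme.Hom.comp_apply]
    have h2 : Spec.map (CommRingCat.ofHom (Ideal.Quotient.mk (Ideal.ofList rs))) ⟨_, hP⟩ =
        hU.primeIdealOf ⟨x, hx⟩ := PrimeSpectrum.ext hcm
    rw [h2, hU.fromSpec_primeIdealOf]
  · change c ∈ ((hU.primeIdealOf ⟨x, hx⟩).asIdeal.map
      (Ideal.Quotient.mk (Ideal.ofList rs))).comap (Ideal.Quotient.mk _) ↔ _
    rw [hcm]

/-- the fibre local ring of the slice at the point over `x` is zero-dimensional -/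
theorem ringKrullDim_fiberStalk_sliceHom (hV : IsAffineOpen V) (e : U ≤ f ⁻¹ᵁ V)
    (x : X) (hx : x ∈ U)
    (hprime : ∀ P : Ideal (X.presheaf.stalk x), P.IsPrime →
      Groth.Agent.H49.FibreStalk.fibreIdeal f x ≤ P →
      (∀ r ∈ rs, (X.presheaf.germ U x hx).hom r ∈ P) → P = IsLocalRing.maximalIdeal _)
    (y : Spec (CommRingCat.of (Γ(X, U) ⧸ Ideal.ofList rs)))
    (hy : (sliceHom hU rs ≫ U.ι) y = x) :
    ringKrullDim (CInt.fiberStalk (sliceHom hU rs ≫ U.ι ≫ f) y) = 0 := by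
  apply ringKrullDim_fiberStalk_eq_zero
  intro y' hsp hfy
  obtain ⟨hx'U, hmem⟩ := sliceHom_apply_mem hU rs y'
  have hsp' : (sliceHom hU rs ≫ U.ι) y' ⤳ x := by
    have := hsp.map (sliceHom hU rs ≫ U.ι).continuous
    rwa [hy] at this
  have hfx : f ((sliceHom hU rs ≫ U.ι) y') = f x := by
    have h1 : ((sliceHom hU rs ≫ U.ι) ≫ f) y' = ((sliceHom hU rs ≫ U.ι) ≫ f) y := by
      simpa only [Category.assoc] using hfy
    have h2 : ∀ w, ((sliceHom hU rs ≫ U.ι) ≫ f) w = f ((sliceHom hU rs ≫ U.ι) w) :=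
      fun w => Scheme.Hom.comp_apply _ _ w
    rwa [h2, h2, hy] at h1
  have h3 := eq_of_specializes_of_mem f hV hU e x hx rs hprime _ hx'U hsp' hfx hmem
  apply (sliceHom hU rs ≫ U.ι).isEmbedding.injective
  rw [h3, hy]

end chart

/-- **Second half**: from a good chart to the conclusion of S2891. -/
theorem main_of_good_chart [LocallyOfFinitePresentation f] (x : X) (hV : IsAffineOpen V)
    (hU : IsAffineOpen U) (e : U ≤ f ⁻¹ᵁ V) (hx : x ∈ U) (rs : List Γ(X, U))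
    (hgood : letI := (f.appLE V U e).hom.toAlgebra; Good Γ(S, V) Γ(X, U) rs)
    (hrsq : ∀ r ∈ rs, r ∈ (hU.primeIdealOf ⟨x, hx⟩).asIdeal)
    (hprime : ∀ P : Ideal (X.presheaf.stalk x), P.IsPrime →
      Groth.Agent.H49.FibreStalk.fibreIdeal f x ≤ P →
      (∀ r ∈ rs, (X.presheaf.germ U x hx).hom r ∈ P) → P = IsLocalRing.maximalIdeal _) :
    ∃ (V' : X.Opens) (Y : Scheme.{u}) (j : Y ⟶ (V' : Scheme.{u})) (y : ↥Y),
      Mor2.IsRegularClosedImmersion j ∧ (V'.ι (j y) = x) ∧ Flat (j ≫ V'.ι ≫ f) ∧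
      (∀ y' : ↥Y, LocCoh.IsCohenMacaulayLocalRing (CInt.fiberStalk (j ≫ V'.ι ≫ f) y')) ∧
      ringKrullDim (CInt.fiberStalk (j ≫ V'.ι ≫ f) y) = 0 := by
  letI algAB : Algebra Γ(S, V) Γ(X, U) := (f.appLE V U e).hom.toAlgebra
  -- the first slice `Z`
  have hflat₁ : Flat (sliceHom hU rs ≫ U.ι ≫ f) := flat_sliceHom_comp f hU rs hV e hgood.2
  have hlfp₁ : LocallyOfFinitePresentation (sliceHom hU rs ≫ U.ι ≫ f) :=
    lfp_sliceHom_comp f hU rs hV e
  obtain ⟨z₀, hz₀, hz₀mem⟩ := exists_sliceHom_apply_eq hU rs x hx hrsq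
  have hdim₀ := ringKrullDim_fiberStalk_sliceHom f hU rs hV e x hx hprime z₀ hz₀
  have hcm₀ : MoreMor.IsCMAt (sliceHom hU rs ≫ U.ι ≫ f) z₀ := by
    refine ⟨Flat.stalkMap _ z₀, ?_⟩
    haveI := Groth.Agent.H49.CMChart.isLocallyNoetherian_fiber (sliceHom hU rs ≫ U.ι ≫ f)
      ((sliceHom hU rs ≫ U.ι ≫ f) z₀)
    exact Groth.Agent.H72.FlatCM.isCohenMacaulayLocalRing_of_ringKrullDim_eq_zero _ hdim₀
  have hWopen := Groth.Agent.H49.CMLocusOpen.isOpen_setOf_isCMAt (sliceHom hU rs ≫ U.ι ≫ f)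
  -- a basic open neighbourhood of `z₀` inside the Cohen–Macaulay locus
  obtain ⟨_, ⟨c', rfl⟩, hz₀c, hcW⟩ := Opens.isBasis_iff_nbhd.mp
    (PrimeSpectrum.isBasis_basic_opens (R := Γ(X, U) ⧸ Ideal.ofList rs))
    (U := ⟨{z | MoreMor.IsCMAt (sliceHom hU rs ≫ U.ι ≫ f) z}, hWopen⟩) hcm₀
  obtain ⟨c, rfl⟩ := Ideal.Quotient.mk_surjective c'
  have hc : c ∉ (hU.primeIdealOf ⟨x, hx⟩).asIdeal := fun hc => hz₀c ((hz₀mem c).mpr hc)
  -- the chart `U₂ = D(c)`
  have hle₂ : X.basicOpen c ≤ U := X.basicOpen_le c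
  have hU₂ : IsAffineOpen (X.basicOpen c) := hU.basicOpen c
  have hx₂ : x ∈ X.basicOpen c := by
    letI := TopCat.Presheaf.algebra_section_stalk X.presheaf ⟨x, hx⟩
    haveI := hU.isLocalization_stalk ⟨x, hx⟩
    rw [X.mem_basicOpen c x hx]
    exact (IsLocalization.AtPrime.isUnit_to_map_iff (X.presheaf.stalk x)
      (hU.primeIdealOf ⟨x, hx⟩).asIdeal c).mpr hc
  have e₂ : X.basicOpen c ≤ f ⁻¹ᵁ V := hle₂.trans e
  letI algABc : Algebra Γ(S, V) Γ(X, X.basicOpen c) := (f.appLE V (X.basicOpen c) e₂).hom.toAlgebra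
  haveI : IsScalarTower Γ(S, V) Γ(X, U) Γ(X, X.basicOpen c) :=
    IsScalarTower.of_algebraMap_eq (fun a => by
      change (f.appLE V (X.basicOpen c) e₂).hom a =
        (X.presheaf.map (homOfLE hle₂).op).hom ((f.appLE V U e).hom a)
      rw [← Scheme.Hom.appLE_map f e (homOfLE hle₂).op]
      rfl)
  haveI := hU.isLocalization_basicOpen c
  have hgood₂ := good_localization Γ(S, V) Γ(X, U) (Submonoid.powers c) Γ(X, X.basicOpen c) rs hgood
  have hQx₂ : (hU₂.primeIdealOf ⟨x, hx₂⟩).asIdeal.comap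
      (algebraMap Γ(X, U) Γ(X, X.basicOpen c)) = (hU.primeIdealOf ⟨x, hx⟩).asIdeal :=
    primeIdealOf_comap_res hU hU₂ hle₂ x hx₂
  have hrsq₂ : ∀ r ∈ rs.map (algebraMap Γ(X, U) Γ(X, X.basicOpen c)),
      r ∈ (hU₂.primeIdealOf ⟨x, hx₂⟩).asIdeal := by
    intro r hr
    obtain ⟨h, hh, rfl⟩ := List.mem_map.mp hr
    have h1 : h ∈ (hU₂.primeIdealOf ⟨x, hx₂⟩).asIdeal.comap
        (algebraMap Γ(X, U) Γ(X, X.basicOpen c)) := by rw [hQx₂]; exact hrsq h hh
    exact h1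
  have hprime₂ : ∀ P : Ideal (X.presheaf.stalk x), P.IsPrime →
      Groth.Agent.H49.FibreStalk.fibreIdeal f x ≤ P →
      (∀ r ∈ rs.map (algebraMap Γ(X, U) Γ(X, X.basicOpen c)),
        (X.presheaf.germ (X.basicOpen c) x hx₂).hom r ∈ P) → P = IsLocalRing.maximalIdeal _ := by
    intro P hP hJ hr
    refine hprime P hP hJ fun h hh => ?_
    have h1 := hr _ (List.mem_map_of_mem hh)
    have h2 : (X.presheaf.germ (X.basicOpen c) x hx₂).hom
        (algebraMap Γ(X, U) Γ(X, X.basicOpen c) h) = (X.presheaf.germ U x hx).hom h :=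
      congrArg (fun φ => φ.hom h) (X.presheaf.germ_res (homOfLE hle₂) x hx₂)
    rw [h2] at h1
    exact h1
  have hne₂ : Ideal.ofList (rs.map (algebraMap Γ(X, U) Γ(X, X.basicOpen c))) ≠ ⊤ := by
    intro htop
    have hIle : Ideal.ofList (rs.map (algebraMap Γ(X, U) Γ(X, X.basicOpen c))) ≤
        (hU₂.primeIdealOf ⟨x, hx₂⟩).asIdeal := by
      rw [Ideal.ofList, Ideal.span_le]
      exact fun r hr => hrsq₂ r hr
    exact (hU₂.primeIdealOf ⟨x, hx₂⟩).isPrime.ne_top (top_le_iff.mp (htop ▸ hIle))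
  obtain ⟨y, hy, -⟩ := exists_sliceHom_apply_eq hU₂ _ x hx₂ hrsq₂
  refine ⟨X.basicOpen c, _, sliceHom hU₂ (rs.map (algebraMap Γ(X, U) Γ(X, X.basicOpen c))), y,
    isRegularClosedImmersion_sliceHom hU₂ _ hgood₂.1 hne₂, ?_,
    flat_sliceHom_comp f hU₂ _ hV e₂ hgood₂.2, ?_,
    ringKrullDim_fiberStalk_sliceHom f hU₂ _ hV e₂ x hx₂ hprime₂ y hy⟩
  · rw [← Scheme.Hom.comp_apply]
    exact hy
  · -- the open immersion of the second slice into the first
    have hIeq : Ideal.ofList (rs.map (algebraMap Γ(X, U) Γ(X, X.basicOpen c))) =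
        (Ideal.ofList rs).map (algebraMap Γ(X, U) Γ(X, X.basicOpen c)) :=
      (Ideal.map_ofList _ _).symm
    have hle_id : Ideal.ofList rs ≤
        (Ideal.ofList (rs.map (algebraMap Γ(X, U) Γ(X, X.basicOpen c)))).comap
          (algebraMap Γ(X, U) Γ(X, X.basicOpen c)) := by
      rw [hIeq]
      exact Ideal.le_comap_map
    letI algQ : Algebra (Γ(X, U) ⧸ Ideal.ofList rs)
        (Γ(X, X.basicOpen c) ⧸ Ideal.ofList (rs.map (algebraMap Γ(X, U) Γ(X, X.basicOpen c)))) :=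
      (Ideal.quotientMap _ (algebraMap Γ(X, U) Γ(X, X.basicOpen c)) hle_id).toAlgebra
    haveI hloc : IsLocalization.Away (Ideal.Quotient.mk (Ideal.ofList rs) c)
        (Γ(X, X.basicOpen c) ⧸ Ideal.ofList (rs.map (algebraMap Γ(X, U) Γ(X, X.basicOpen c)))) :=
      isLocalization_away_quotient' (Ideal.ofList rs) _ hIeq hle_id c
    haveI hopen : IsOpenImmersion (Spec.map (CommRingCat.ofHom (algebraMap
        (Γ(X, U) ⧸ Ideal.ofList rs)
        (Γ(X, X.basicOpen c) ⧸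
          Ideal.ofList (rs.map (algebraMap Γ(X, U) Γ(X, X.basicOpen c))))))) :=
      IsOpenImmersion.of_isLocalization (Ideal.Quotient.mk (Ideal.ofList rs) c)
    have hring : CommRingCat.ofHom (Ideal.Quotient.mk (Ideal.ofList rs)) ≫
        CommRingCat.ofHom (algebraMap (Γ(X, U) ⧸ Ideal.ofList rs)
          (Γ(X, X.basicOpen c) ⧸
            Ideal.ofList (rs.map (algebraMap Γ(X, U) Γ(X, X.basicOpen c))))) =
        X.presheaf.map (homOfLE hle₂).op ≫ CommRingCat.ofHom (Ideal.Quotient.mk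
          (Ideal.ofList (rs.map (algebraMap Γ(X, U) Γ(X, X.basicOpen c))))) := by
      ext r
      rfl
    have hfs : Spec.map (X.presheaf.map (homOfLE hle₂).op) ≫ hU.fromSpec = hU₂.fromSpec :=
      hU.map_fromSpec hU₂ (homOfLE hle₂).op
    have hcomm : Spec.map (CommRingCat.ofHom (algebraMap (Γ(X, U) ⧸ Ideal.ofList rs)
          (Γ(X, X.basicOpen c) ⧸
            Ideal.ofList (rs.map (algebraMap Γ(X, U) Γ(X, X.basicOpen c)))))) ≫
        (sliceHom hU rs ≫ U.ι ≫ f) =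
        sliceHom hU₂ (rs.map (algebraMap Γ(X, U) Γ(X, X.basicOpen c))) ≫
          (X.basicOpen c).ι ≫ f := by
      rw [← Category.assoc (sliceHom hU rs), ← Category.assoc (sliceHom hU₂ _), sliceHom_ι,
        sliceHom_ι, ← hfs, ← Category.assoc, ← Category.assoc, ← Category.assoc,
        ← Spec.map_comp, ← Spec.map_comp, hring]
    intro y'
    have hmemW : MoreMor.IsCMAt (sliceHom hU rs ≫ U.ι ≫ f)
        (Spec.map (CommRingCat.ofHom (algebraMap (Γ(X, U) ⧸ Ideal.ofList rs)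
          (Γ(X, X.basicOpen c) ⧸
            Ideal.ofList (rs.map (algebraMap Γ(X, U) Γ(X, X.basicOpen c)))))) y') := by
      apply hcW
      have hrange := PrimeSpectrum.localization_away_comap_range
        (Γ(X, X.basicOpen c) ⧸ Ideal.ofList (rs.map (algebraMap Γ(X, U) Γ(X, X.basicOpen c))))
        (Ideal.Quotient.mk (Ideal.ofList rs) c)
      have : (Spec.map (CommRingCat.ofHom (algebraMap (Γ(X, U) ⧸ Ideal.ofList rs)
          (Γ(X, X.basicOpen c) ⧸
            Ideal.ofList (rs.map (algebraMap Γ(X, U) Γ(X, X.basicOpen c)))))) y') ∈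
          Set.range (PrimeSpectrum.comap (algebraMap (Γ(X, U) ⧸ Ideal.ofList rs)
          (Γ(X, X.basicOpen c) ⧸
            Ideal.ofList (rs.map (algebraMap Γ(X, U) Γ(X, X.basicOpen c)))))) := ⟨y', rfl⟩
      rw [hrange] at this
      exact this
    have h4 := (Groth.Agent.H49.CMChart.isCMAt_comp_of_isOpenImmersion _ _ y').mpr hmemW
    rw [hcomm] at h4
    exact h4.2

/-- **S2891**, modulo S4848. -/
theorem main_gen (H : Hyp4848.{u}) [LocallyOfFinitePresentation f] (x : X)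
    (hcm : MoreMor.IsCMAt f x) :
    ∃ (V : X.Opens) (Y : Scheme.{u}) (j : Y ⟶ (V : Scheme.{u})) (y : ↥Y),
      Mor2.IsRegularClosedImmersion j ∧ (V.ι (j y) = x) ∧ Flat (j ≫ V.ι ≫ f) ∧
      (∀ y' : ↥Y, LocCoh.IsCohenMacaulayLocalRing (CInt.fiberStalk (j ≫ V.ι ≫ f) y')) ∧
      ringKrullDim (CInt.fiberStalk (j ≫ V.ι ≫ f) y) = 0 := by
  obtain ⟨hflat, hCM⟩ := (Groth.Agent.H49.CMMor.isCMAt_iff f x).mp hcm
  obtain ⟨V, hV, hfxV, -⟩ := Opens.isBasis_iff_nbhd.mp S.isBasis_affineOpens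
    (show f x ∈ (⊤ : S.Opens) from trivial)
  obtain ⟨U₀, hU₀, hxU₀, e₀⟩ := Opens.isBasis_iff_nbhd.mp X.isBasis_affineOpens
    (show x ∈ f ⁻¹ᵁ V from hfxV)
  letI algAB : Algebra Γ(S, V) Γ(X, U₀) := (f.appLE V U₀ e₀).hom.toAlgebra
  have hfpU : (f.appLE V U₀ e₀).hom.FinitePresentation :=
    HasRingHomProperty.appLE (P := @LocallyOfFinitePresentation) f inferInstance ⟨V, hV⟩
      ⟨U₀, hU₀⟩ e₀
  haveI : Algebra.FinitePresentation Γ(S, V) Γ(X, U₀) := hfpU
  letI := TopCat.Presheaf.algebra_section_stalk X.presheaf ⟨x, hxU₀⟩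
  haveI := hU₀.isLocalization_stalk ⟨x, hxU₀⟩
  letI algAq : Algebra Γ(S, V) (X.presheaf.stalk x) :=
    ((X.presheaf.germ U₀ x hxU₀).hom.comp (f.appLE V U₀ e₀).hom).toAlgebra
  haveI : IsScalarTower Γ(S, V) Γ(X, U₀) (X.presheaf.stalk x) :=
    IsScalarTower.of_algebraMap_eq (fun _ => rfl)
  have hflat' : Module.Flat Γ(S, V) (X.presheaf.stalk x) :=
    flat_stalk_of_flat_stalkMap f x hV e₀ hxU₀ hflat
  have hEq : Groth.Agent.H49.FibreStalk.fibreIdeal f x =
      ((hU₀.primeIdealOf ⟨x, hxU₀⟩).asIdeal.comap (algebraMap Γ(S, V) Γ(X, U₀))).map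
        (algebraMap Γ(S, V) (X.presheaf.stalk x)) := by
    have h1 := fibreIdeal_eq f x hV hU₀ e₀ hxU₀
    rw [Ideal.map_map] at h1
    exact h1
  haveI hCM' : LocCoh.IsCohenMacaulayLocalRing (X.presheaf.stalk x ⧸
      ((hU₀.primeIdealOf ⟨x, hxU₀⟩).asIdeal.comap (algebraMap Γ(S, V) Γ(X, U₀))).map
        (algebraMap Γ(S, V) (X.presheaf.stalk x))) := hEq ▸ hCM
  obtain ⟨g, hg, hs, hmem, hprime, hgoodAll⟩ := slice_cm_gen H Γ(S, V) Γ(X, U₀)
    (hU₀.primeIdealOf ⟨x, hxU₀⟩).asIdeal (X.presheaf.stalk x) hflat'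
  -- the chart `U₁ = D(g)`
  have hle₁ : X.basicOpen g ≤ U₀ := X.basicOpen_le g
  have hU₁ : IsAffineOpen (X.basicOpen g) := hU₀.basicOpen g
  have hx₁ : x ∈ X.basicOpen g := by
    rw [X.mem_basicOpen g x hxU₀]
    exact (IsLocalization.AtPrime.isUnit_to_map_iff (X.presheaf.stalk x)
      (hU₀.primeIdealOf ⟨x, hxU₀⟩).asIdeal g).mpr hg
  have e₁ : X.basicOpen g ≤ f ⁻¹ᵁ V := hle₁.trans e₀
  letI algABg : Algebra Γ(S, V) Γ(X, X.basicOpen g) := (f.appLE V (X.basicOpen g) e₁).hom.toAlgebra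
  haveI : IsScalarTower Γ(S, V) Γ(X, U₀) Γ(X, X.basicOpen g) :=
    IsScalarTower.of_algebraMap_eq (fun a => by
      change (f.appLE V (X.basicOpen g) e₁).hom a =
        (X.presheaf.map (homOfLE hle₁).op).hom ((f.appLE V U₀ e₀).hom a)
      rw [← Scheme.Hom.appLE_map f e₀ (homOfLE hle₁).op]
      rfl)
  haveI := hU₀.isLocalization_basicOpen g
  have hgood₁ := hgoodAll Γ(X, X.basicOpen g)
  have hQx₁ : (hU₁.primeIdealOf ⟨x, hx₁⟩).asIdeal.comap
      (algebraMap Γ(X, U₀) Γ(X, X.basicOpen g)) = (hU₀.primeIdealOf ⟨x, hxU₀⟩).asIdeal :=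
    primeIdealOf_comap_res hU₀ hU₁ hle₁ x hx₁
  have hrsq₁ : ∀ r ∈ hs.map (algebraMap Γ(X, U₀) Γ(X, X.basicOpen g)),
      r ∈ (hU₁.primeIdealOf ⟨x, hx₁⟩).asIdeal := by
    intro r hr
    obtain ⟨h, hh, rfl⟩ := List.mem_map.mp hr
    have h1 : h ∈ (hU₁.primeIdealOf ⟨x, hx₁⟩).asIdeal.comap
        (algebraMap Γ(X, U₀) Γ(X, X.basicOpen g)) := by rw [hQx₁]; exact hmem h hh
    exact h1
  have hprime₁ : ∀ P : Ideal (X.presheaf.stalk x), P.IsPrime →
      Groth.Agent.H49.FibreStalk.fibreIdeal f x ≤ P →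
      (∀ r ∈ hs.map (algebraMap Γ(X, U₀) Γ(X, X.basicOpen g)),
        (X.presheaf.germ (X.basicOpen g) x hx₁).hom r ∈ P) → P = IsLocalRing.maximalIdeal _ := by
    intro P hP hJ hr
    refine hprime P hP (hEq ▸ hJ) fun h hh => ?_
    have h1 := hr _ (List.mem_map_of_mem hh)
    have h2 : (X.presheaf.germ (X.basicOpen g) x hx₁).hom
        (algebraMap Γ(X, U₀) Γ(X, X.basicOpen g) h) = (X.presheaf.germ U₀ x hxU₀).hom h :=
      congrArg (fun φ => φ.hom h) (X.presheaf.germ_res (homOfLE hle₁) x hx₁)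
    rw [h2] at h1
    exact h1
  exact main_of_good_chart f x hV hU₁ e₁ hx₁ _ hgood₁ hrsq₁ hprime₁

end scheme

end Groth.Agent.H47.CMSlice
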